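import Groth.Agent.Lib.Lef25.Purity
import Groth.Agent.Lib.CIPic27.Final
import Groth.Agent.Lib.RelPure25.Descend
import Groth.Agent.S0247

/-!
# Purity for complete intersections of dimension at least three
-/

set_option autoImplicit false
set_option linter.style.haveILetI false

universe u

open CategoryTheory CategoryTheory.Limits AlgebraicGeometry IsLocalRing RingTheory.Sequence

noncomputable section

namespace Groth.Agent.Lef25

open Groth.Agent.CIPic27 Groth.Agent.LocCohLib Groth.Agent.ParaGr27

/-- Over a prime which is maximal away from `t`, only the closed point contains `t`. -/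
theorem maximalIdeal_le_of_maximal_away {B : Type u} [CommRing B] [IsLocalRing B] [IsNoetherianRing B] {t : B}
    (ht : t ∈ maximalIdeal B) {P : Ideal (Localization.Away t)} (hP : P.IsMaximal) {q : PrimeSpectrum B}
    (hpq : P.comap (algebraMap B (Localization.Away t)) ≤ q.asIdeal) (htq : t ∈ q.asIdeal) :
    maximalIdeal B ≤ q.asIdeal := by
  classical
  let p : Ideal B := P.comap (algebraMap B (Localization.Away t))
  haveI : p.IsPrime := Ideal.IsPrime.comap _
  have htp : t ∉ p := fun h => hP.ne_top (Ideal.eq_top_of_isUnit_mem _ h (IsLocalization.Away.algebraMap_isUnit t))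
  by_contra hqm
  let π := Ideal.Quotient.mk p
  haveI : Nontrivial (B ⧸ p) := Ideal.Quotient.nontrivial_iff.2 (Ideal.IsPrime.ne_top inferInstance)
  haveI : IsLocalRing (B ⧸ p) := IsLocalRing.of_surjective' π Ideal.Quotient.mk_surjective
  haveI : IsDomain (B ⧸ p) := Ideal.Quotient.isDomain _
  have hmc : (maximalIdeal (B ⧸ p)).comap π = maximalIdeal B :=
    IsLocalRing.eq_maximalIdeal (Ideal.comap_isMaximal_of_surjective π Ideal.Quotient.mk_surjective)
  let q' := q.asIdeal.map π
  haveI : q'.IsPrime := Ideal.map_isPrime_of_surjective Ideal.Quotient.mk_surjective (by rw [Ideal.mk_ker]; exact hpq)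
  have hqc : q'.comap π = q.asIdeal := by
    rw [Ideal.comap_map_of_surjective _ Ideal.Quotient.mk_surjective, ← RingHom.ker_eq_comap_bot, Ideal.mk_ker,
      sup_eq_left.2 hpq]
  have htπ : π t ≠ 0 := fun h => htp (Ideal.Quotient.eq_zero_iff_mem.1 h)
  have hq'm : q' < maximalIdeal (B ⧸ p) := lt_of_le_of_ne (IsLocalRing.le_maximalIdeal (Ideal.IsPrime.ne_top ‹_›))
    fun h => hqm (by rw [← hqc, h, hmc])
  have hq'0 : (⊥ : Ideal (B ⧸ p)) < q' :=
    bot_lt_iff_ne_bot.2 fun h => htπ ((Submodule.mem_bot _).1 (h.le (Ideal.mem_map_of_mem π htq)))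
  -- avoid the primes minimal over `t`
  have hfin := Ideal.finite_minimalPrimes_of_isNoetherianRing (B ⧸ p) (Ideal.span {π t})
  have havoid : ¬ ((maximalIdeal (B ⧸ p) : Set (B ⧸ p)) ⊆ ⋃ r ∈ (hfin.toFinset : Set (Ideal (B ⧸ p))), (r : Set _)) := by
    rw [Ideal.subset_union_prime ⊥ ⊥ (fun r hr _ _ => (hfin.mem_toFinset.1 hr).1.1)]
    rintro ⟨r, hr, hle⟩
    have hr' := hfin.mem_toFinset.1 hr
    have : r ≤ q' := hr'.2 ⟨inferInstance, (Ideal.span_singleton_le_iff_mem _).2 (Ideal.mem_map_of_mem π htq)⟩
      (hq'm.le.trans hle)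
    exact hq'm.not_ge (hle.trans this)
  obtain ⟨a, ham, har⟩ := Set.not_subset.1 havoid
  simp only [Set.mem_iUnion, SetLike.mem_coe, exists_prop, not_exists, not_and] at har
  obtain ⟨q₁, hq₁, -⟩ := Ideal.exists_minimalPrimes_le (I := Ideal.span {a}) (J := maximalIdeal (B ⧸ p))
    ((Ideal.span_singleton_le_iff_mem _).2 ham)
  haveI := hq₁.1.1
  have h1 : q₁.height ≤ 1 := Ideal.height_le_one_of_isPrincipal_of_mem_minimalPrimes _ _ hq₁
  have ha₁ : a ∈ q₁ := hq₁.1.2 (Ideal.mem_span_singleton_self a)
  have htq₁ : π t ∉ q₁ := fun h => by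
    obtain ⟨r, hr, hrle⟩ := Ideal.exists_minimalPrimes_le (I := Ideal.span {π t}) (J := q₁)
      ((Ideal.span_singleton_le_iff_mem _).2 h)
    haveI := hr.1.1
    have hr0 : (⊥ : Ideal (B ⧸ p)) < r :=
      bot_lt_iff_ne_bot.2 fun e => htπ ((Submodule.mem_bot _).1 (e.le (hr.1.2 (Ideal.mem_span_singleton_self _))))
    rcases eq_or_lt_of_le hrle with rfl | hlt
    · exact har r (hfin.mem_toFinset.2 hr) ha₁
    · have h2 := (Ideal.height_strict_mono_of_isPrime_of_isPrime hlt).trans_le h1
      exact absurd (ENat.lt_one_iff_eq_zero.1 h2)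
        (zero_le.trans_lt (Ideal.height_strict_mono_of_isPrime_of_isPrime hr0)).ne'
  have hq₁0 : q₁ ≠ ⊥ := fun h => by
    have ha0 : a = 0 := (Submodule.mem_bot _).1 (h.le ha₁)
    obtain ⟨r, hr, -⟩ := Ideal.exists_minimalPrimes_le (I := Ideal.span {π t}) (J := q')
      ((Ideal.span_singleton_le_iff_mem _).2 (Ideal.mem_map_of_mem π htq))
    exact har r (hfin.mem_toFinset.2 hr) (ha0 ▸ r.zero_mem)
  let Q := q₁.comap π
  have htQ : t ∉ Q := htq₁
  have hdisj : Disjoint ((Submonoid.powers t : Submonoid B) : Set B) (Q : Set B) := by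
    rw [Set.disjoint_left]
    rintro z ⟨n, rfl⟩ hz
    exact htQ ((Ideal.IsPrime.comap π).mem_of_pow_mem n hz)
  have hpQ : p ≤ Q := fun x hx => by
    show π x ∈ q₁
    rw [Ideal.Quotient.eq_zero_iff_mem.2 hx]
    exact q₁.zero_mem
  have hPQ : P ≤ Q.map (algebraMap B (Localization.Away t)) := by
    rw [← IsLocalization.map_comap (Submonoid.powers t) (Localization.Away t) P]
    exact Ideal.map_mono hpQ
  have hQ' : (Q.map (algebraMap B (Localization.Away t))).IsPrime :=
    IsLocalization.isPrime_of_isPrime_disjoint (Submonoid.powers t) _ _ (Ideal.IsPrime.comap π) hdisj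
  have heq : Q = p := by
    show Q = P.comap _
    rw [hP.eq_of_le hQ'.ne_top hPQ]
    exact (IsLocalization.under_map_of_isPrime_disjoint (Submonoid.powers t) _ (Ideal.IsPrime.comap π) hdisj).symm
  refine hq₁0 ?_
  rw [← Ideal.map_comap_of_surjective π Ideal.Quotient.mk_surjective q₁, show q₁.comap π = p from heq,
    Ideal.map_quotient_self]

/-- Grothendieck: complete intersections of dimension at least three are pure. -/
theorem purity_ci : ∀ (n : ℕ) (R : Type u) [CommRing R] [IsRegularLocalRing R] (rs : List R),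
    rs.length = n → (∀ r ∈ rs, r ∈ maximalIdeal R) → IsWeaklyRegular R rs →
    ∀ [IsLocalRing (R ⧸ Ideal.ofList rs)], (3 : WithBot ℕ∞) ≤ ringKrullDim (R ⧸ Ideal.ofList rs) →
    FEt.PurityHolds (R ⧸ Ideal.ofList rs) := by
  intro n
  induction n with
  | zero =>
    intro R _ _ rs hlen hm hreg _ hdim
    obtain rfl := List.length_eq_zero_iff.1 hlen
    haveI : IsRegularLocalRing (R ⧸ Ideal.ofList ([] : List R)) := IsRegularLocalRing.of_ringEquiv
      ((Ideal.quotEquivOfEq (I := Ideal.ofList ([] : List R)) (J := ⊥) Ideal.ofList_nil).trans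
        (RingEquiv.quotientBot R)).symm
    exact S0247.result _ (le_trans (by norm_num) hdim)
  | succ n ih =>
    intro R _ _ rs hlen hm hreg _ hdim
    obtain ⟨l, t₀, rfl⟩ : ∃ l t₀, rs = l ++ [t₀] := by
      rcases List.eq_nil_or_concat rs with h | ⟨l, a, h⟩
      · simp [h] at hlen
      · exact ⟨l, a, by simpa using h⟩
    have hl : l.length = n := by simpa using hlen
    let C := AdicCompletion (maximalIdeal R) R
    haveI : IsRegularLocalRing C := (Compl.isRegularLocalRing_adicCompletion_iff (A := R)).1 inferInstance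
    haveI : Module.Flat R C := AdicCompletion.flat_of_isNoetherian _
    let φ := algebraMap R C
    have hmC : maximalIdeal C = (maximalIdeal R).map φ := AdicCompletion.maximalIdeal_eq_map
    have hm' : ∀ r ∈ (l ++ [t₀]).map φ, r ∈ maximalIdeal C := fun r hr => by
      obtain ⟨a, ha, rfl⟩ := List.mem_map.1 hr
      rw [hmC]
      exact Ideal.mem_map_of_mem φ (hm a ha)
    have hreg' : IsWeaklyRegular C ((l ++ [t₀]).map φ) := hreg.of_flat
    let l' := l.map φ
    let t₁ := φ t₀
    have hl'm : ∀ r ∈ l', r ∈ maximalIdeal C := fun r hr =>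
      hm' r (by rw [List.map_append]; exact List.mem_append_left _ hr)
    have hreg'' := hreg'
    rw [List.map_append, List.map_singleton, isWeaklyRegular_append_iff, isWeaklyRegular_cons_iff] at hreg''
    obtain ⟨hl'reg, ht₁reg, -⟩ := hreg''
    let B := C ⧸ Ideal.ofList l'
    haveI : IsLocalRing B := isLocalRing_quotient_ofList hl'm
    haveI : LocCoh.IsCohenMacaulayLocalRing B := cm_quotient hl'm hl'reg
    let t : B := Ideal.Quotient.mk _ t₁
    have ht : t ∈ maximalIdeal B := by
      rw [← IsLocalRing.map_maximalIdeal_of_surjective (Ideal.Quotient.mk (Ideal.ofList l')) Ideal.Quotient.mk_surjective]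
      exact Ideal.mem_map_of_mem _ (hm' t₁ (List.mem_map_of_mem (List.mem_append_right _ (List.mem_singleton_self _))))
    have htreg : ∀ x : B, t * x = 0 → x = 0 := fun x hx => by
      obtain ⟨c, rfl⟩ := Ideal.Quotient.mk_surjective x
      rw [← map_mul, Ideal.Quotient.eq_zero_iff_mem] at hx
      have h := isSMulRegular_iff_right_eq_zero_of_smul.1 ht₁reg (Submodule.Quotient.mk c) (by
        rw [← Submodule.Quotient.mk_smul, Submodule.Quotient.mk_eq_zero, smul_eq_mul, smul_eq_mul, Ideal.mul_top]
        exact hx)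
      rw [Submodule.Quotient.mk_eq_zero, smul_eq_mul, Ideal.mul_top] at h
      exact Ideal.Quotient.eq_zero_iff_mem.2 h
    -- dimensions
    obtain ⟨d, e, hd, he, hde⟩ := exists_dim hm hreg
    obtain ⟨d', e', hd', he', hde'⟩ := exists_dim hl'm hl'reg
    obtain rfl : d = d' := by
      have h := Compl.ringKrullDim_maximalIdeal_adicCompletion (A := R)
      rw [hd, hd'] at h
      exact_mod_cast h.symm
    rw [he] at hdim
    have he3 : 3 ≤ e := by exact_mod_cast hdim
    have hl'len : l'.length = n := by simp [l', hl]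
    rw [hlen] at hde
    rw [hl'len] at hde'
    have hB4 : ((4 : ℕ) : WithBot ℕ∞) ≤ ringKrullDim B := by
      rw [he']
      exact Nat.cast_le.2 (by omega)
    haveI : IsLocalRing (B ⧸ Ideal.span {t}) :=
      haveI := Ideal.Quotient.nontrivial_iff.2 fun h : Ideal.span {t} = ⊤ =>
        (maximalIdeal.isMaximal B).ne_top (top_le_iff.1 (h ▸ (Ideal.span_singleton_le_iff_mem _).2 ht))
      IsLocalRing.of_surjective' _ Ideal.Quotient.mk_surjective
    haveI : IsAdicComplete (maximalIdeal B) B := CohenAlg3.isAdicComplete_quotient (R := C) (Ideal.ofList l')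
    haveI : IsAdicComplete (Ideal.span {t}) B :=
      CT6.isAdicComplete_of_le ((Ideal.span_singleton_le_iff_mem (maximalIdeal B)).2 ht)
    have hPB : FEt.PurityHolds B := ih C l' hl'len hl'm hl'reg ((Nat.cast_le.2 (show 3 ≤ 4 by norm_num)).trans hB4)
    -- the local rings away from the hyperplane section
    have hp : ∀ P : Ideal (Localization.Away t), ∀ _ : P.IsMaximal, FEt.PurityHolds (Localization.AtPrime P) := by
      intro P hP
      let p : PrimeSpectrum B := ⟨P.comap (algebraMap B (Localization.Away t)), inferInstance⟩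
      have htp : t ∉ p.asIdeal := fun h => hP.ne_top (Ideal.eq_top_of_isUnit_mem _ h
        (IsLocalization.Away.algebraMap_isUnit t))
      have hdisj : ∀ q : PrimeSpectrum B, t ∉ q.asIdeal →
          Disjoint ((Submonoid.powers t : Submonoid B) : Set B) (q.asIdeal : Set B) := fun q hq => by
        rw [Set.disjoint_left]
        rintro z ⟨n, rfl⟩ hz
        exact hq (q.isPrime.mem_of_pow_mem n hz)
      have hpm : ¬ maximalIdeal B ≤ p.asIdeal := fun h => htp (h ht)
      have hq := fun q hpq htq => maximalIdeal_le_of_maximal_away ht hP (q := q) hpq htq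
      let P' := p.asIdeal.comap (Ideal.Quotient.mk (Ideal.ofList l'))
      let CP := Localization.AtPrime P'
      haveI : IsRegularLocalRing CP := RegLoc.isRegularLocalRing_localization C P'
      let l'' := l'.map (algebraMap C CP)
      have hmem : ∀ r ∈ l', r ∈ P' := fun r hr => by
        show Ideal.Quotient.mk (Ideal.ofList l') r ∈ p.asIdeal
        rw [Ideal.Quotient.eq_zero_iff_mem.2 (Ideal.subset_span hr : r ∈ Ideal.ofList l')]
        exact p.asIdeal.zero_mem
      have hl''m : ∀ r ∈ l'', r ∈ maximalIdeal CP := fun r hr => by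
        obtain ⟨a, ha, rfl⟩ := List.mem_map.1 hr
        exact (IsLocalization.AtPrime.to_map_mem_maximal_iff CP P' a).2 (hmem a ha)
      have hl''reg : IsWeaklyRegular CP l'' := hl'reg.of_flat
      haveI := isLocalRing_quotient_ofList hl''m
      let eq : (CP ⧸ Ideal.ofList l'') ≃+* Localization.AtPrime p.asIdeal :=
        (Ideal.quotEquivOfEq (by rw [Ideal.map_ofList])).trans
          (RegLoc.localizationQuotientEquiv (Ideal.ofList l') p.asIdeal)
      have h3 : (3 : WithBot ℕ∞) ≤ ringKrullDim (CP ⧸ Ideal.ofList l'') := by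
        rw [ringKrullDim_eq_of_ringEquiv eq]
        exact le_height_of_maximal_away ht hpm hq (k := 3) hB4
      have hP3 := ih CP l'' (by simp [l'', hl'len]) hl''m hl''reg h3
      haveI : IsLocalization.AtPrime (Localization.AtPrime P) p.asIdeal :=
        IsLocalization.isLocalization_isLocalization_atPrime_isLocalization (Submonoid.powers t)
          (Localization.AtPrime P) P
      exact RelPure25.purityHolds_of_ringEquiv ((eq.trans (IsLocalization.algEquiv p.asIdeal.primeCompl
        (Localization.AtPrime p.asIdeal) (Localization.AtPrime P)).toRingEquiv).symm) hP3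
    -- the local cohomology of the section vanishes in low degrees
    have hd3 : ∀ i < 3, Subsingleton (LocCoh.H (maximalIdeal B) i (B ⧸ Ideal.span {t})) := by
      refine (van_iff_natCast_le_depth (A := B) (X := B ⧸ Ideal.span {t}) 3).2 ?_
      rw [FlatDepth.depth_eq_of_surjective (A := B) (B := B ⧸ Ideal.span {t}) (M := B ⧸ Ideal.span {t})
        Ideal.Quotient.mk_surjective]
      exact natCast_le_depth_quotient (k := 3) ht htreg (le_depth_of_le_dim (k := 4) hB4)
    have hann : ∀ i < 3, maximalIdeal B ≤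
        (Module.annihilator B (LocCoh.H (maximalIdeal B) i (B ⧸ Ideal.span {t}))).radical := fun i hi => by
      haveI := hd3 i hi
      exact fun a _ => ⟨1, Module.mem_annihilator.2 fun _ => Subsingleton.elim _ _⟩
    have hQ : FEt.PurityHolds (B ⧸ Ideal.span {t}) := by
      obtain ⟨m, x, hx⟩ := Pur25.exists_generators B
      exact purityHolds_quotient t hPB ⟨fun V₀ => exists_extension_hypersurface t V₀
        (Pur25.mem_puncturedSpec_iff hx) hx ht htreg (hann 1 (by omega)) (hann 2 (by omega)) hp⟩
    -- descend along the completion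
    let K := Ideal.ofList (l ++ [t₀])
    let K' := K.map φ
    have hK' : Ideal.ofList l' ⊔ Ideal.span {t₁} = K' := by
      simp only [K', K, Ideal.map_ofList, List.map_append, List.map_singleton, Ideal.ofList_append, Ideal.ofList_singleton]
      rfl
    have hK'm : K' ≤ maximalIdeal C := by
      rw [hmC]; exact Ideal.map_mono (ofList_le_maximalIdeal hm)
    haveI : Nontrivial (C ⧸ K') := Ideal.Quotient.nontrivial_iff.2 fun h =>
      (maximalIdeal.isMaximal C).ne_top (top_le_iff.1 (h ▸ hK'm))
    haveI : IsLocalRing (C ⧸ K') := IsLocalRing.of_surjective' _ Ideal.Quotient.mk_surjective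
    let eB : (B ⧸ Ideal.span {t}) ≃+* (C ⧸ K') :=
      (Ideal.quotEquivOfEq (by rw [Ideal.map_span, Set.image_singleton])).trans
        ((DoubleQuot.quotQuotEquivQuotSup (Ideal.ofList l') (Ideal.span {t₁})).trans (Ideal.quotEquivOfEq hK'))
    have hCK : FEt.PurityHolds (C ⧸ K') := RelPure25.purityHolds_of_ringEquiv eB.symm hQ
    let ψ : R ⧸ K →+* C ⧸ K' := Ideal.quotientMap K' φ Ideal.le_comap_map
    letI : Algebra (R ⧸ K) (C ⧸ K') := ψ.toAlgebra
    haveI hflat : Module.Flat (R ⧸ K) (C ⧸ K') := PerfLCI4.flat_quotient_map (R := R) (L := C) K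
    haveI : IsLocalHom ψ := ⟨fun x hx => by
      obtain ⟨a, rfl⟩ := Ideal.Quotient.mk_surjective x
      refine (isUnit_of_map_unit φ a ?_).map (Ideal.Quotient.mk K)
      by_contra hna
      exact (IsLocalRing.maximalIdeal.isMaximal (C ⧸ K')).ne_top (Ideal.eq_top_of_isUnit_mem _
        ((IsLocalRing.map_maximalIdeal_of_surjective (Ideal.Quotient.mk K') Ideal.Quotient.mk_surjective).le
          (Ideal.mem_map_of_mem _ hna)) hx)⟩
    haveI := cm_quotient hm hreg
    refine RelPure25.purityHolds_of_flat_extension ψ hflat (le_depth_of_le_dim (k := 2) ?_) ?_ hCK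
    · rw [he]; exact Nat.cast_le.2 (by omega)
    · refine le_trans ?_ Ideal.le_radical
      rw [← IsLocalRing.map_maximalIdeal_of_surjective (Ideal.Quotient.mk K') Ideal.Quotient.mk_surjective,
        ← IsLocalRing.map_maximalIdeal_of_surjective (Ideal.Quotient.mk K) Ideal.Quotient.mk_surjective, hmC,
        Ideal.map_map, Ideal.map_map]
      exact le_rfl

end Groth.Agent.Lef25
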