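import Groth.Agent.Lib.FEtEq25.Graph

/-!
# Descent of graphs from clopen lifting on a single fibre product
-/

set_option autoImplicit false

universe u

open CategoryTheory CategoryTheory.Limits AlgebraicGeometry TopologicalSpace Opposite

noncomputable section

namespace Groth.Agent.FEtEq25

variable {X : Scheme.{u}}

/-- The graph of a map between restricted covers descends. -/
theorem exists_desc_hom' {X' : Scheme.{u}} (f : X' ⟶ X)
    (hT : ∀ S : Set X, IsClopen S → S.Nonempty → (S ∩ Set.range f).Nonempty)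
    {U V : Scheme.{u}} (u : U ⟶ X) (v : V ⟶ X) [IsFinite u] [Etale u] [IsFinite v] [Etale v]
    (hclop : ∀ C : Set ↥(pullback (pullback.fst u v ≫ u) f), IsClopen C →
      ∃ D : Set ↥(pullback u v), IsClopen D ∧ pullback.fst (pullback.fst u v ≫ u) f ⁻¹' D = C)
    (mL : pullback u f ⟶ pullback v f) (hmL : mL ≫ pullback.snd v f = pullback.snd u f) :
    ∃ m : U ⟶ V, m ≫ v = u ∧ pullback.fst u f ≫ m = mL ≫ pullback.fst v f := by
  let W : FEt.Cat X := MorphismProperty.Over.mk ⊤ (pullback.fst u v ≫ u)
    ⟨inferInstance, inferInstance⟩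
  let oU : FEt.Cat X := MorphismProperty.Over.mk ⊤ u ⟨inferInstance, inferInstance⟩
  let p1 : W ⟶ oU := MorphismProperty.Over.homMk (pullback.fst u v) rfl
  let w0 := pullback.fst u v ≫ u
  -- the graph
  have hcond : pullback.fst u f ≫ u = (mL ≫ pullback.fst v f) ≫ v := by
    rw [Category.assoc, pullback.condition, pullback.condition, reassoc_of% hmL]
  let gr : pullback u f ⟶ pullback u v := pullback.lift (pullback.fst u f) (mL ≫ pullback.fst v f) hcond
  let g : pullback u f ⟶ pullback w0 f :=
    pullback.lift gr (pullback.snd u f) (by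
      rw [← pullback.condition]
      simp only [w0, gr, pullback.lift_fst_assoc])
  let q : pullback w0 f ⟶ pullback u f :=
    pullback.lift (pullback.fst w0 f ≫ pullback.fst u v) (pullback.snd w0 f) (by
      rw [Category.assoc]; exact pullback.condition)
  have hgfst : g ≫ pullback.fst w0 f = gr := pullback.lift_fst _ _ _
  have hgsnd : g ≫ pullback.snd w0 f = pullback.snd u f := pullback.lift_snd _ _ _
  have hgq : g ≫ q = 𝟙 _ := by
    apply pullback.hom_ext
    · rw [Category.assoc, pullback.lift_fst, reassoc_of% hgfst, pullback.lift_fst, Category.id_comp]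
    · rw [Category.assoc, pullback.lift_snd, hgsnd, Category.id_comp]
  have hgprop : FEt.prop g := by
    refine MorphismProperty.of_postcomp FEt.prop (W' := FEt.prop) g (pullback.snd w0 f)
      ⟨inferInstance, inferInstance⟩ ?_
    rw [hgsnd]
    exact ⟨inferInstance, inferInstance⟩
  have : IsFinite g := hgprop.1
  have : Etale g := hgprop.2
  have : Mono g := mono_of_mono_fac hgq
  have : IsOpenImmersion g :=
    have : UniversallyInjective g := inferInstance
    Groth.Agent.S3694.result g
  obtain ⟨D, hD, hDC⟩ := hclop (Set.range g)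
    ⟨g.isClosedMap.isClosed_range, g.isOpenEmbedding.isOpen_range⟩
  let Do : (pullback u v).Opens := ⟨D, hD.2⟩
  let oD : FEt.Cat X := openCover' W Do hD.1
  let r : oD ⟶ oU := openCoverι W Do hD.1 ≫ p1
  have hrl : r.left = Do.ι ≫ pullback.fst u v := rfl
  have : IsIso r := by
    refine isIso_of_bijective_fibres_on r _ hT fun x hx => ?_
    obtain ⟨x', rfl⟩ := hx
    obtain ⟨K, _, _, g0, hg0⟩ := exists_geomPoint x'
    refine ⟨K, inferInstance, inferInstance, g0 ≫ f, by rw [Scheme.Hom.comp_apply, hg0], ?_, ?_⟩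
    · -- injective
      have lifts : ∀ (c : Spec (CommRingCat.of K) ⟶ (Do : Scheme.{u}))
          (_ : (c ≫ Do.ι) ≫ w0 = g0 ≫ f),
          ∃ e, e ≫ gr = c ≫ Do.ι ∧ e ≫ pullback.fst u f = (c ≫ Do.ι) ≫ pullback.fst u v ∧
            e ≫ pullback.snd u f = g0 := by
        intro c hc
        let P : Spec (CommRingCat.of K) ⟶ pullback w0 f := pullback.lift (c ≫ Do.ι) g0 hc
        have hP : Set.range P ⊆ Set.range g := by
          rintro _ ⟨y, rfl⟩
          rw [← hDC, Set.mem_preimage, ← Scheme.Hom.comp_apply]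
          show (P ≫ pullback.fst w0 f) y ∈ D
          rw [pullback.lift_fst]
          exact (c y).2
        refine ⟨IsOpenImmersion.lift g P hP, ?_, ?_, ?_⟩
        · rw [← hgfst, IsOpenImmersion.lift_fac_assoc]
          exact pullback.lift_fst _ _ _
        · have : pullback.fst u f = g ≫ pullback.fst w0 f ≫ pullback.fst u v := by
            rw [reassoc_of% hgfst, pullback.lift_fst]
          rw [this, IsOpenImmersion.lift_fac_assoc, pullback.lift_fst_assoc]
        · rw [← hgsnd, IsOpenImmersion.lift_fac_assoc]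
          exact pullback.lift_snd _ _ _
      rintro ⟨d, hd⟩ ⟨d', hd'⟩ hdd'
      have hr : (d ≫ Do.ι) ≫ pullback.fst u v = (d' ≫ Do.ι) ≫ pullback.fst u v := by
        simp only [Category.assoc]
        exact congrArg Subtype.val hdd'
      obtain ⟨e, he1, he2, he3⟩ := lifts d ((Category.assoc _ _ _).trans hd)
      obtain ⟨e', he1', he2', he3'⟩ := lifts d' ((Category.assoc _ _ _).trans hd')
      have hee : e = e' := by
        apply pullback.hom_ext
        · exact he2.trans (hr.trans he2'.symm)
        · exact he3.trans he3'.symm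
      refine Subtype.ext ?_
      show d = d'
      exact (cancel_mono Do.ι).1 (he1.symm.trans ((congrArg (· ≫ gr) hee).trans he1'))
    · -- surjective
      rintro ⟨s, hs⟩
      let s' : Spec (CommRingCat.of K) ⟶ pullback u f := pullback.lift s g0 hs
      have hP : Set.range (s' ≫ gr) ⊆ Set.range Do.ι := by
        rintro _ ⟨y, rfl⟩
        rw [Scheme.Opens.range_ι, Scheme.Hom.comp_apply, ← hgfst, Scheme.Hom.comp_apply]
        have : g (s' y) ∈ Set.range g := ⟨_, rfl⟩
        rw [← hDC] at this
        exact this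
      let c := IsOpenImmersion.lift Do.ι (s' ≫ gr) hP
      have hc : c ≫ Do.ι ≫ pullback.fst u v = s := by
        rw [IsOpenImmersion.lift_fac_assoc, Category.assoc]
        exact (congrArg (s' ≫ ·) (pullback.lift_fst _ _ _)).trans (pullback.lift_fst _ _ _)
      refine ⟨⟨c, ?_⟩, Subtype.ext hc⟩
      show c ≫ Do.ι ≫ pullback.fst u v ≫ u = g0 ≫ f
      rw [reassoc_of% hc]
      exact hs
  have hk : Set.range gr ⊆ Set.range Do.ι := by
    rintro _ ⟨y, rfl⟩
    rw [Scheme.Opens.range_ι, ← hgfst, Scheme.Hom.comp_apply]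
    have : g y ∈ Set.range g := ⟨_, rfl⟩
    rw [← hDC] at this
    exact this
  let k := IsOpenImmersion.lift Do.ι gr hk
  let ri : U ⟶ (Do : Scheme.{u}) := (inv r).left
  have hri : (Do.ι ≫ pullback.fst u v) ≫ ri = 𝟙 _ :=
    congrArg (fun z => z.left) (IsIso.hom_inv_id r)
  have hinv : pullback.fst u f ≫ ri = k := by
    have : pullback.fst u f = k ≫ Do.ι ≫ pullback.fst u v := by
      rw [IsOpenImmersion.lift_fac_assoc]; exact (pullback.lift_fst _ _ _).symm
    rw [this]
    simp only [Category.assoc] at hri ⊢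
    rw [hri, Category.comp_id]
  refine ⟨ri ≫ Do.ι ≫ pullback.snd u v, ?_, ?_⟩
  · have hw : ri ≫ Do.ι ≫ pullback.fst u v ≫ u = u := w (inv r)
    simp only [Category.assoc, ← pullback.condition]
    exact hw
  · rw [reassoc_of% hinv, IsOpenImmersion.lift_fac_assoc]
    exact pullback.lift_snd _ _ _

end Groth.Agent.FEtEq25
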