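import Groth.Agent.Lib.Lef25.System
import Groth.Agent.Lib.Pur25.LocCohKill

/-!
# Depth two of glued modules and finiteness of their sections
-/

set_option autoImplicit false
set_option linter.style.haveILetI false

universe u

open IsLocalRing

noncomputable section

namespace Groth.Agent.Lef25

open Groth.Agent.LocCohLib Groth.Agent.InjHullLib Groth.Agent.ParaGr27 Groth.Agent.CIPic27 Groth.Agent.Pur25

variable {B : Type u} [CommRing B] [IsLocalRing B] [IsNoetherianRing B]

/-- Torsion free modules in which compatible families glue have depth two. -/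
theorem good_of_glue {ι : Type} [Finite ι] {x : ι → B} (hx : Ideal.span (Set.range x) = maximalIdeal B)
    (M : Type u) [AddCommGroup M] [Module B M] (htf : TorsFree x M)
    (hglue : ∀ (k : ℕ) (m : ι → M), IsFam x k m → ∃ r : M, ∀ i, x i ^ k • r = m i) : Good B M := by
  classical
  cases nonempty_fintype ι
  constructor
  · refine (subsingleton_zero_iff _).2 ((Submodule.eq_bot_iff _).2 fun v hv => htf v ?_)
    exact isTors_iff_mem_powTors.2 (by rw [hx]; exact hv)
  · obtain ⟨E, _, _, f, hE, hf, hac⟩ := exists_injective_extension (R := B) M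
    let q : E →ₗ[B] E ⧸ LinearMap.range f := Submodule.mkQ _
    obtain ⟨d, hd, hd0⟩ := exists_h1Map (Ideal.span (Set.range x)) hf (Submodule.mkQ_surjective _)
      f.exact_map_mkQ_range (hac _ 0)
    show Subsingleton (LocCoh.H (maximalIdeal B) 1 M)
    rw [← hx]
    refine subsingleton_of_forall_eq 0 fun z => ?_
    obtain ⟨c, rfl⟩ := hd z
    refine (hd0 c).2 ?_
    obtain ⟨e, he⟩ := Submodule.mkQ_surjective _ (c : E ⧸ LinearMap.range f)
    have hc := isTors_iff_mem_powTors.2 c.2
    choose p hp using hc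
    let P := Finset.univ.sup p
    have hm : ∀ i, ∃ m : M, f m = x i ^ P • e := fun i => by
      have h0 : x i ^ P • (c : E ⧸ LinearMap.range f) = 0 := by
        obtain ⟨d, hd⟩ := Nat.exists_eq_add_of_le (Finset.le_sup (f := p) (Finset.mem_univ i) : p i ≤ P)
        rw [show P = p i + d from hd, pow_add, mul_comm, mul_smul, hp i, smul_zero]
      rw [← he, ← map_smul] at h0
      exact (Submodule.Quotient.mk_eq_zero _).1 h0
    choose m hm using hm
    obtain ⟨r, hr⟩ := hglue P m fun i j => hf (by rw [map_smul, map_smul, hm, hm, smul_comm])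
    refine ⟨e - f r, isTors_iff_mem_powTors.1 fun i => ⟨P, ?_⟩, ?_⟩
    · rw [smul_sub, ← map_smul, hr, hm, sub_self]
    · rw [← he, map_sub]
      exact sub_eq_self.2 ((Submodule.Quotient.mk_eq_zero _).2 (LinearMap.mem_range_self f r))

/-- Local cohomology of a retract up to `a`-powers of a power of a module. -/
theorem mem_radical_annihilator_H {A₀ C : Type u} [AddCommGroup A₀] [Module B A₀] [AddCommGroup C] [Module B C]
    (i : ℕ) {a : B} (hH : a ∈ (Module.annihilator B (LocCoh.H (maximalIdeal B) i A₀)).radical)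
    {r k : ℕ} (f : C →ₗ[B] (Fin r → A₀)) (g : (Fin r → A₀) →ₗ[B] C) (hfg : ∀ c, g (f c) = a ^ k • c) :
    a ∈ (Module.annihilator B (LocCoh.H (maximalIdeal B) i C)).radical := by
  classical
  obtain ⟨l, hl⟩ := hH
  refine ⟨l + k, Module.mem_annihilator.2 fun y => ?_⟩
  have hsum : a ^ k • (LinearMap.id : C →ₗ[B] C) =
      ∑ j, (g ∘ₗ LinearMap.single B (fun _ : Fin r => A₀) j) ∘ₗ (LinearMap.proj j ∘ₗ f) := by
    refine LinearMap.ext fun c => ?_
    simp only [LinearMap.sum_apply, LinearMap.comp_apply, LinearMap.proj_apply, LinearMap.single_apply,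
      LinearMap.smul_apply, LinearMap.id_apply]
    rw [← map_sum, Finset.univ_sum_single, hfg]
  have h := LinearMap.congr_fun (congrArg (hmap (maximalIdeal B) i) hsum) y
  rw [hmap_smul, hmap_id] at h
  rw [pow_add, mul_smul]
  change a ^ k • y = _ at h
  rw [h]
  suffices key : ∀ s : Finset (Fin r), a ^ l • hmap (maximalIdeal B) i
      (∑ j ∈ s, (g ∘ₗ LinearMap.single B (fun _ : Fin r => A₀) j) ∘ₗ (LinearMap.proj j ∘ₗ f)) y = 0 from key _
  intro s
  induction s using Finset.induction_on with
  | empty =>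
    rw [Finset.sum_empty, ← zero_smul B (LinearMap.id : C →ₗ[B] C), hmap_smul, zero_smul]
    exact smul_zero _
  | insert j s hj ih =>
    rw [Finset.sum_insert hj, LocCohLib.hmap_add, LinearMap.add_apply, smul_add, ih, add_zero,
      hmap_comp (maximalIdeal B) i (g ∘ₗ LinearMap.single B (fun _ : Fin r => A₀) j), LinearMap.comp_apply,
      ← map_smul, Module.mem_annihilator.1 hl, map_zero]

/-- Finitely generated local cohomology is killed by powers of the maximal ideal. -/
theorem le_radical_annihilator_H_of_finite (M : Type u) [AddCommGroup M] [Module B M] (i : ℕ)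
    [Module.Finite B (LocCoh.H (maximalIdeal B) i M)] :
    maximalIdeal B ≤ (Module.annihilator B (LocCoh.H (maximalIdeal B) i M)).radical := by
  obtain ⟨k, hk⟩ := exists_pow_annihilates (isPowerTorsion (maximalIdeal B) i M)
  exact fun a ha => ⟨k, Module.mem_annihilator.2 (hk _ (Ideal.pow_mem_pow ha k))⟩

/-- A depth two extension of a finite module by torsion is finite. -/
theorem finite_of_torsion_extension (M : Type u) [AddCommGroup M] [Module B M] (hM : Good B M)
    (C : Submodule B M) [Module.Finite B C] (hQ : LocCoh.IsPowerTorsion (maximalIdeal B) (M ⧸ C))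
    (h1 : maximalIdeal B ≤ (Module.annihilator B (LocCoh.H (maximalIdeal B) 1 C)).radical) :
    Module.Finite B M := by
  let m := maximalIdeal B
  have hS := shortExact_mk C.subtype C.mkQ C.injective_subtype C.mkQ_surjective (LinearMap.exact_subtype_mkQ C)
  have hd : Function.Injective (δ m 0 hS) := (injective_iff_map_eq_zero _).2 fun x hx => by
    obtain ⟨y, rfl⟩ := (exact_map_δ m 0 hS x).1 hx
    exact (congrArg _ (hM.1.elim y 0)).trans (map_zero _)
  obtain ⟨hN, -⟩ := isFiniteLength_iff_isNoetherian_isArtinian.1 ((GorenLib.isFiniteLength_H_iff C 1).2 h1)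
  have htop : powTors m (M ⧸ C) = ⊤ := eq_top_iff.2 fun c _ => mem_powTors_iff.2 (hQ c)
  let e : (M ⧸ C) ≃ₗ[B] LocCoh.H m 0 (M ⧸ C) :=
    (Submodule.topEquiv.symm.trans (LinearEquiv.ofEq _ _ htop.symm)).trans (zeroEquiv m _).symm
  haveI : Module.Finite B (M ⧸ C) := by
    let F : (M ⧸ C) →ₗ[B] LocCoh.H m 1 C := δ m 0 hS ∘ₗ e.toLinearMap
    haveI : IsNoetherian B (LocCoh.H m 1 C) := hN
    exact Module.Finite.of_injective F (hd.comp e.injective)
  exact Module.Finite.of_submodule_quotient C

/-- `H²` only sees a module up to torsion cokernels. -/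
theorem le_radical_annihilator_H2 (M : Type u) [AddCommGroup M] [Module B M]
    (C : Submodule B M) (hQ : LocCoh.IsPowerTorsion (maximalIdeal B) (M ⧸ C))
    (h2 : maximalIdeal B ≤ (Module.annihilator B (LocCoh.H (maximalIdeal B) 2 C)).radical) :
    maximalIdeal B ≤ (Module.annihilator B (LocCoh.H (maximalIdeal B) 2 M)).radical := fun a ha => by
  let m := maximalIdeal B
  have hS := shortExact_mk C.subtype C.mkQ C.injective_subtype C.mkQ_surjective (LinearMap.exact_subtype_mkQ C)
  obtain ⟨k, hk⟩ := h2 ha
  haveI := subsingleton_of_isPowerTorsion m 1 (M ⧸ C) hQ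
  refine ⟨k, Module.mem_annihilator.2 fun z => ?_⟩
  obtain ⟨y, rfl⟩ := (exact_map_map m 2 hS z).1 (Subsingleton.elim (α := LocCoh.H m 2 (M ⧸ C)) _ _)
  exact ((((localCohomology m 2).map _).hom).map_smul (a ^ k) y).symm.trans
    ((congrArg _ (Module.mem_annihilator.1 hk y)).trans (map_zero _))

end Groth.Agent.Lef25
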