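import Groth.Agent.Lib.Lef25.Tower

/-!
# Sections along the formal completion of a punctured hypersurface
-/

set_option autoImplicit false
set_option linter.style.haveILetI false

universe u

open CategoryTheory CategoryTheory.Limits AlgebraicGeometry TopologicalSpace Opposite IsLocalRing

noncomputable section

namespace Groth.Agent.Lef25

open Groth.Agent.LocCohLib Groth.Agent.Pur25

variable {A : Type u} [CommRing A] [IsNoetherianRing A] [IsLocalRing A] (t : A)

variable {ι : Type} [Finite ι] {x : ι → A} {U : (Spec (CommRingCat.of A)).Opens}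

/-- The structure map of a thickening over the ring. -/
abbrev uk (U : (Spec (CommRingCat.of A)).Opens) (k : ℕ) : Uk t U k ⟶ Spec (CommRingCat.of A) :=
  pullback.fst U.ι (qMap t k) ≫ U.ι

omit [IsNoetherianRing A] [IsLocalRing A] in
theorem uk_snd (k : ℕ) : pullback.snd U.ι (qMap t k) ≫ qMap t k = uk t U k := pullback.condition.symm

theorem compactSpace_Uk (hU : ∀ q : PrimeSpectrum A, q ∈ U ↔ ∃ i, x i ∉ q.asIdeal) (k : ℕ) :
    CompactSpace (Uk t U k) := by
  haveI := compactSpace_punctured hU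
  exact QuasiCompact.compactSpace_of_compactSpace (pullback.fst U.ι (qMap t k))

theorem quasiSeparated_Uk (k : ℕ) : QuasiSeparatedSpace (Uk t U k) := by
  haveI : IsFinite (pullback.fst U.ι (qMap t k)) := inferInstance
  haveI : LocallyOfFiniteType (uk t U k) := inferInstanceAs (LocallyOfFiniteType (pullback.fst U.ι (qMap t k) ≫ U.ι))
  haveI : IsLocallyNoetherian (Uk t U k) := LocallyOfFiniteType.isLocallyNoetherian (uk t U k)
  infer_instance

theorem pieces_Uk (hU : ∀ q : PrimeSpectrum A, q ∈ U ↔ ∃ i, x i ∉ q.asIdeal) (k : ℕ) :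
    (∀ z, ∃ i, z ∈ piece x (uk t U k) i) ∧ ∀ i, IsAffineOpen (piece x (uk t U k) i) := by
  haveI : IsFinite (pullback.fst U.ι (qMap t k)) := inferInstance
  obtain ⟨h1, h2⟩ := cover_affine hU (pullback.fst U.ι (qMap t k))
  exact ⟨h1, fun i => by simpa [piece, uk] using h2 i 1⟩

theorem uk_kernel_coker (hU : ∀ q : PrimeSpectrum A, q ∈ U ↔ ∃ i, x i ∉ q.asIdeal) (k : ℕ) :
    (∀ b : A, algebraMap A (secAlg (uk t U k)) b = 0 → ∀ i, ∃ p : ℕ, x i ^ p * b ∈ thick t k) ∧
    ∀ (r : secAlg (uk t U k)) (i : ι), ∃ (p : ℕ) (b : A), x i ^ p • r = algebraMap A (secAlg (uk t U k)) b := by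
  haveI := compactSpace_Uk t hU k
  haveI := quasiSeparated_Uk t (U := U) k
  let s := pullback.snd U.ι (qMap t k)
  have h := sections_openImmersion s (gΓ s).hom (fun _ => rfl) (fun i => Ideal.Quotient.mk (thick t k) (x i))
    (fun i q hq => by
      rw [Scheme.Pullback.range_snd]
      show qMap t k q ∈ Set.range U.ι
      rw [Scheme.Opens.range_ι]
      exact (hU _).2 ⟨i, hq⟩)
  have halg : ∀ b : A, gΓ s (Ideal.Quotient.mk (thick t k) b) = gΓ (uk t U k) b := fun b => by
    rw [← uk_snd, gΓ_comp]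
  constructor
  · intro b hb i
    obtain ⟨p, hp⟩ := h.1 (Ideal.Quotient.mk _ b) ((halg b).trans hb) i
    exact ⟨p, Ideal.Quotient.eq_zero_iff_mem.1 (by rw [map_mul, map_pow]; exact hp)⟩
  · intro r i
    obtain ⟨p, b, hb⟩ := h.2 r i
    obtain ⟨b, rfl⟩ := Ideal.Quotient.mk_surjective b
    refine ⟨p, b, ?_⟩
    rw [Algebra.smul_def, map_pow]
    exact ((halg b).symm.trans (hb.trans (congrArg (· ^ p * r) (halg (x i))))).symm

/-- Sections of the punctured hypersurface form a finite module. -/
theorem finite_bottom_sections (hU : ∀ q : PrimeSpectrum A, q ∈ U ↔ ∃ i, x i ∉ q.asIdeal)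
    (hx : Ideal.span (Set.range x) = maximalIdeal A)
    (h1 : maximalIdeal A ≤ (Module.annihilator A (LocCoh.H (maximalIdeal A) 1 (A ⧸ Ideal.span {t}))).radical) :
    Module.Finite A (secAlg (uk t U 0)) := by
  let M := secAlg (uk t U 0)
  let φ : (A ⧸ Ideal.span {t}) →ₗ[A] M := Submodule.liftQ _ (Algebra.linearMap A M) fun c hc => by
    rw [LinearMap.mem_ker, Algebra.linearMap_apply, Algebra.algebraMap_eq_smul_one]
    exact smul_sec_eq_zero (pullback.snd U.ι (qMap t 0)) (uk_snd t 0) hc _
  let C := LinearMap.range φ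
  haveI : Module.Finite A C := Module.Finite.range φ
  have hQ : LocCoh.IsPowerTorsion (maximalIdeal A) (M ⧸ C) := fun v => by
    obtain ⟨r, rfl⟩ := Submodule.Quotient.mk_surjective _ v
    obtain ⟨K, hK⟩ := exists_pow_le_of_forall hx (C.comap (LinearMap.toSpanSingleton A M r) : Ideal A) fun i => by
      obtain ⟨p, b, hb⟩ := (uk_kernel_coker t hU 0).2 r i
      exact ⟨p, Submodule.Quotient.mk b, by rw [Submodule.liftQ_apply, Algebra.linearMap_apply, ← hb]; rfl⟩
    exact ⟨K, fun a ha => by rw [← Submodule.Quotient.mk_smul, Submodule.Quotient.mk_eq_zero]; exact hK ha⟩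
  have hker : LocCoh.IsPowerTorsion (maximalIdeal A) (LinearMap.ker φ) := fun v => by
    obtain ⟨b, hb⟩ := Submodule.Quotient.mk_surjective _ v.1
    have hv : algebraMap A M b = 0 := by
      rw [← Algebra.linearMap_apply, ← Submodule.liftQ_apply (Ideal.span {t}) (Algebra.linearMap A M), hb]
      exact v.2
    obtain ⟨K, hK⟩ := exists_pow_le_of_forall hx
      (Submodule.comap (LinearMap.toSpanSingleton A A b) (Ideal.span {t}) : Ideal A)
      fun i => (uk_kernel_coker t hU 0).1 b hv i
    refine ⟨K, fun a ha => Subtype.ext ?_⟩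
    show a • v.1 = 0
    rw [← hb, ← Submodule.Quotient.mk_smul, Submodule.Quotient.mk_eq_zero]
    exact hK ha
  have h1C : maximalIdeal A ≤ (Module.annihilator A (LocCoh.H (maximalIdeal A) 1 C)).radical := fun a ha => by
    have hS := shortExact_mk (LinearMap.ker φ).subtype φ.rangeRestrict (Submodule.injective_subtype _)
      φ.surjective_rangeRestrict (by rw [LinearMap.exact_iff, LinearMap.ker_rangeRestrict, Submodule.range_subtype])
    haveI : Subsingleton (LocCoh.H (maximalIdeal A) (1 + 1) (LinearMap.ker φ)) :=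
      subsingleton_of_isPowerTorsion (maximalIdeal A) 1 (LinearMap.ker φ) hker
    obtain ⟨k, hk⟩ := h1 ha
    refine ⟨k, Module.mem_annihilator.2 fun z => ?_⟩
    obtain ⟨y, rfl⟩ := (exact_map_δ (maximalIdeal A) 1 hS z).1
      (Subsingleton.elim (α := LocCoh.H (maximalIdeal A) (1 + 1) (LinearMap.ker φ)) _ _)
    exact ((((localCohomology (maximalIdeal A) 1).map _).hom).map_smul (a ^ k) y).symm.trans
      ((congrArg _ (Module.mem_annihilator.1 hk y)).trans (map_zero _))
  exact finite_of_torsion_extension M (good_sec hx _ (pieces_Uk t hU 0).1) C hQ h1C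

set_option maxHeartbeats 800000 in
/-- Formal functions on a punctured hypersurface with finite bottom come from `A` near its points. -/
theorem exists_near (hU : ∀ q : PrimeSpectrum A, q ∈ U ↔ ∃ i, x i ∉ q.asIdeal)
    (hx : Ideal.span (Set.range x) = maximalIdeal A) [IsAdicComplete (Ideal.span {t}) A]
    (hreg : ∀ b : A, t * b = 0 → b = 0)
    (h1 : maximalIdeal A ≤ (Module.annihilator A (LocCoh.H (maximalIdeal A) 1 (A ⧸ Ideal.span {t}))).radical)
    (q : PrimeSpectrum A) (htq : t ∈ q.asIdeal) (hqx : ∃ i, x i ∉ q.asIdeal) :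
    ∃ g : A, g ∉ q.asIdeal ∧
      (∀ (k : ℕ → ℕ) (a : ℕ → ι → A),
        (∀ n (i j : ι), x j ^ k n * a n i - x i ^ k n * a n j ∈ thick t n) →
        (∀ n (i : ι), ∃ p : ℕ, x i ^ p * (x i ^ k n * a (n + 1) i - x i ^ k (n + 1) * a n i) ∈ thick t n) →
        ∃ b : A, ∀ n (i : ι), ∃ p : ℕ, x i ^ p * (g * a n i - x i ^ k n * b) ∈ thick t n) ∧
      ∀ b : A, (∀ n (i : ι), ∃ p : ℕ, x i ^ p * b ∈ thick t n) → g * b = 0 := by
  classical
  haveI : ∀ k, CompactSpace (Uk t U k) := compactSpace_Uk t hU
  haveI : ∀ k, QuasiSeparatedSpace (Uk t U k) := quasiSeparated_Uk t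
  have hcg : ∀ k, jMap t U k ≫ uk t U (k + 1) = uk t U k := fun k => by
    rw [uk, uk, jMap, pullback.lift_fst_assoc]
  let sy : Sys A t :=
    { M := fun k => secAlg (uk t U k)
      ρ := fun k => secMap (uk t U k) (uk t U (k + 1)) (jMap t U k) (hcg k)
      finite := finite_bottom_sections t hU hx h1
      kill := fun k r => smul_sec_eq_zero (pullback.snd U.ι (qMap t k)) (uk_snd t k)
        (by rw [thick_eq]; exact Ideal.mem_span_singleton_self _) r
      good := fun k => good_sec hx _ (pieces_Uk t hU k).1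
      coker := fun k => coker_secMap _ _ (jMap t U k) (hcg k) hx (pieces_Uk t hU (k + 1)).2
      ker := fun k r hr => ker_secMap _ _ (jMap t U k) (hcg k) (pieces_Uk t hU (k + 1)).1 (pieces_Uk t hU (k + 1)).2
        (thick_le t k) (fun b hb => mul_thick t k hb) (pullback.snd U.ι (qMap t k)) (pullback.snd U.ι (qMap t (k + 1)))
        (uk_snd t (k + 1)) (isPullback_jMap t k).flip r hr
      flat := fun k r hr => flat_level hx hreg k (thick_eq t k) _ (pullback.snd U.ι (qMap t k)) (uk_snd t k)
        (pieces_Uk t hU k).2 r hr }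
  let L : Submodule A (∀ k, sy.M k) :=
    { carrier := {r | ∀ k, sy.ρ k (r (k + 1)) = r k}
      add_mem' := fun {r s} hr hs k => by rw [Pi.add_apply, Pi.add_apply, map_add, hr k, hs k]
      zero_mem' := fun k => map_zero _
      smul_mem' := fun c r hr k => by rw [Pi.smul_apply, Pi.smul_apply, map_smul, hr k] }
  let ev : L →ₗ[A] sy.M 0 := LinearMap.proj 0 ∘ₗ L.subtype
  have hL : ∀ (r : L) k, sy.ρ k (r.1 (k + 1)) = r.1 k := fun r => r.2
  have hker : ∀ r : L, ev r = 0 → ∃ s : L, r = t • s := fun r hr => by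
    have hπ : ∀ k, sy.π k (r.1 k) = 0 := by
      intro k
      induction k with
      | zero => exact hr
      | succ k ih =>
        show sy.π k (sy.ρ k _) = 0
        rw [hL r k, ih]
    choose s hs using fun k => sy.exists_τ_eq k _ (hπ (k + 1))
    have hsL : ∀ k, sy.ρ k (s (k + 1)) = s k := fun k => sy.τ_injective k (by
      rw [Sys.τ_ρ, ← Sys.ρ_τ, hs, hs, hL r (k + 1)])
    refine ⟨⟨s, hsL⟩, Subtype.ext (funext fun k => ?_)⟩
    show r.1 k = t • s k
    rw [← hL r k, ← hs k, Sys.ρ_τ]
  haveI : IsHausdorff (Ideal.span {t}) L := ⟨fun r hr => Subtype.ext (funext fun k => by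
    have h := hr (k + 1)
    rw [SModEq.zero, Ideal.span_singleton_pow, Submodule.ideal_span_singleton_smul] at h
    obtain ⟨z, -, rfl⟩ := (Submodule.mem_smul_pointwise_iff_exists _ _ _).1 h
    exact sy.kill k _)⟩
  haveI := sy.finite
  obtain ⟨r, g₀, hg₀⟩ := Submodule.fg_iff_exists_fin_generating_family.1 (IsNoetherian.noetherian (LinearMap.range ev))
  choose G hG using fun i : Fin r => (hg₀ ▸ Submodule.subset_span ⟨i, rfl⟩ : g₀ i ∈ LinearMap.range ev)
  let F : (Fin r → A) →ₗ[A] L := Fintype.linearCombination A G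
  haveI : IsPrecomplete (Ideal.span {t}) (Fin r → A) := (Compl.isAdicComplete_of_finite _ _).toIsPrecomplete
  have hF : Function.Surjective F := surjective_of_mkQ_comp_surjective (I := Ideal.span {t}) fun v => by
    obtain ⟨w, rfl⟩ := Submodule.Quotient.mk_surjective _ v
    obtain ⟨c, hc⟩ := (Submodule.mem_span_range_iff_exists_fun A).1 (hg₀.ge (LinearMap.mem_range_self ev w))
    obtain ⟨s, hs⟩ := hker (w - F c) (by
      rw [map_sub, ← hc, Fintype.linearCombination_apply, map_sum, sub_eq_zero]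
      exact Finset.sum_congr rfl fun i _ => by rw [map_smul, hG])
    refine ⟨c, ?_⟩
    rw [LinearMap.comp_apply, Submodule.mkQ_apply, eq_comm, Submodule.Quotient.eq, hs]
    exact Submodule.smul_mem_smul (Ideal.mem_span_singleton_self t) trivial
  haveI : Module.Finite A L := Module.Finite.of_surjective F hF
  let one : A →ₗ[A] L := LinearMap.codRestrict L
    (LinearMap.pi fun k => Algebra.linearMap A (sy.M k)) fun c k => (sy.ρ k).commutes c
  obtain ⟨i₀, hi₀⟩ := hqx
  -- surjectivity near `q`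
  have h2 : ∃ g ∉ q.asIdeal, ∀ w : L, g • w ∈ LinearMap.range one := by
    let N := L ⧸ LinearMap.range one
    have hdiv : ∀ v : N, ∃ (c : A) (v' : N), c ∉ q.asIdeal ∧ c • v = t • v' := by
      intro v
      obtain ⟨w, rfl⟩ := Submodule.Quotient.mk_surjective _ v
      obtain ⟨p, b, hb⟩ := (uk_kernel_coker t hU 0).2 (w.1 0) i₀
      obtain ⟨s, hs⟩ := hker (x i₀ ^ p • w - one b) (by
        rw [map_sub, map_smul, sub_eq_zero]
        exact hb)
      refine ⟨x i₀ ^ p, Submodule.Quotient.mk s, fun h => hi₀ (q.isPrime.mem_of_pow_mem p h), ?_⟩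
      rw [← Submodule.Quotient.mk_smul, ← Submodule.Quotient.mk_smul, Submodule.Quotient.eq, ← hs]
      exact ⟨b, by abel⟩
    let S := q.asIdeal.primeCompl
    haveI : IsNoetherianRing (Localization S) := IsLocalization.isNoetherianRing S _ inferInstance
    have hsub : Subsingleton (LocalizedModule S N) := by
      have hle : (⊤ : Submodule (Localization S) (LocalizedModule S N)) ≤
          maximalIdeal (Localization.AtPrime q.asIdeal) • (⊤ : Submodule (Localization S) (LocalizedModule S N)) := by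
        rintro z -
        induction z using LocalizedModule.induction_on with
        | h v s =>
          obtain ⟨c, v', hc, hcv⟩ := hdiv v
          have hz : LocalizedModule.mk v s = (algebraMap A (Localization S) t) • LocalizedModule.mk v' (⟨c, hc⟩ * s) := by
            rw [algebraMap_smul, LocalizedModule.smul'_mk, ← hcv]
            exact (LocalizedModule.mk_cancel_common_left ⟨c, hc⟩ s v).symm
          rw [hz]
          exact Submodule.smul_mem_smul ((IsLocalization.AtPrime.to_map_mem_maximal_iff _ q.asIdeal t).2 htq) trivial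
      have := Submodule.eq_bot_of_le_smul_of_le_jacobson_bot _ _ Module.Finite.fg_top hle
        (maximalIdeal_le_jacobson ⊥)
      exact (Submodule.subsingleton_iff _).1 (subsingleton_of_top_le_bot (this.le))
    obtain ⟨g, hg', hg⟩ := SetLike.not_le_iff_exists.1 fun h =>
      (Module.notMem_support_iff.2 hsub) (Module.mem_support_iff_of_finite.2 h)
    refine ⟨g, hg, fun w => ?_⟩
    rw [← Submodule.Quotient.mk_eq_zero, Submodule.Quotient.mk_smul]
    exact Module.mem_annihilator.1 hg' _
  obtain ⟨g, hg, hgL⟩ := h2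
  -- injectivity near `q`
  have h3 : ∃ h ∉ q.asIdeal, ∀ b : A, (∀ n (i : ι), ∃ p : ℕ, x i ^ p * b ∈ thick t n) → h * b = 0 := by
    let N : Ideal A :=
      { carrier := {b | ∀ n (i : ι), ∃ p : ℕ, x i ^ p * b ∈ thick t n}
        add_mem' := fun {b c} hb hc n i => by
          obtain ⟨p, hp⟩ := hb n i
          obtain ⟨p', hp'⟩ := hc n i
          refine ⟨p + p', ?_⟩
          rw [show x i ^ (p + p') * (b + c) = x i ^ p' * (x i ^ p * b) + x i ^ p * (x i ^ p' * c) by ring]
          exact add_mem (Ideal.mul_mem_left _ _ hp) (Ideal.mul_mem_left _ _ hp')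
        zero_mem' := fun n i => ⟨0, by simp⟩
        smul_mem' := fun c b hb n i => by
          obtain ⟨p, hp⟩ := hb n i
          exact ⟨p, by rw [smul_eq_mul, mul_left_comm]; exact Ideal.mul_mem_left _ _ hp⟩ }
    have hz : ∀ b ∈ N, algebraMap A (Localization.AtPrime q.asIdeal) b = 0 := fun b hb => by
      have hmem : algebraMap A (Localization.AtPrime q.asIdeal) b ∈
          ⨅ n : ℕ, maximalIdeal (Localization.AtPrime q.asIdeal) ^ n := by
        refine Ideal.mem_iInf.2 fun n => ?_
        obtain ⟨p, hp⟩ := hb n i₀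
        rw [thick_eq, Ideal.mem_span_singleton'] at hp
        obtain ⟨c, hc⟩ := hp
        have hu : IsUnit (algebraMap A (Localization.AtPrime q.asIdeal) (x i₀ ^ p)) :=
          IsLocalization.map_units (M := q.asIdeal.primeCompl) _ ⟨_, fun h => hi₀ (q.isPrime.mem_of_pow_mem p h)⟩
        rw [← Ideal.unit_mul_mem_iff_mem _ hu, ← map_mul, ← hc, map_mul, map_pow]
        exact Ideal.pow_le_pow_right (Nat.le_succ n) (Ideal.mul_mem_left _ _
          (Ideal.pow_mem_pow ((IsLocalization.AtPrime.to_map_mem_maximal_iff _ q.asIdeal t).2 htq) _))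
      rw [Ideal.iInf_pow_eq_bot_of_isLocalRing _ (maximalIdeal.isMaximal _).ne_top] at hmem
      exact hmem
    obtain ⟨s, w, hw⟩ := Submodule.fg_iff_exists_fin_generating_family.1 (IsNoetherian.noetherian N)
    choose c hc using fun l : Fin s => (IsLocalization.map_eq_zero_iff q.asIdeal.primeCompl _ (w l)).1
      (hz _ (hw ▸ Submodule.subset_span ⟨l, rfl⟩))
    refine ⟨∏ l, (c l : A), show (∏ l, (c l : A)) ∈ q.asIdeal.primeCompl from prod_mem fun l _ => (c l).2, fun b hb => ?_⟩
    obtain ⟨d, hd⟩ := (Submodule.mem_span_range_iff_exists_fun A).1 (hw.ge (show b ∈ N from hb))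
    rw [← hd, Finset.mul_sum]
    refine Finset.sum_eq_zero fun l _ => ?_
    rw [smul_eq_mul, ← Finset.prod_erase_mul _ _ (Finset.mem_univ l),
      show (∏ a ∈ Finset.univ.erase l, (c a : A)) * (c l : A) * (d l * w l) =
        (∏ a ∈ Finset.univ.erase l, (c a : A)) * d l * ((c l : A) * w l) by ring, hc l, mul_zero]
  obtain ⟨h, hh, hhb⟩ := h3
  refine ⟨g * h, fun hm => (q.isPrime.mem_or_mem hm).elim hg hh, fun k a hfam hcomp => ?_, fun b hb => by
    rw [mul_assoc, hhb b hb, mul_zero]⟩
  have hglue : ∀ n, ∃ v : sy.M n, ∀ i, x i ^ k n • v = algebraMap A (sy.M n) (a n i) := fun n =>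
    glue_sec x (uk t U n) (pieces_Uk t hU n).1 (k n) _ fun i j => by
      rw [Algebra.smul_def, Algebra.smul_def, ← map_mul, ← map_mul, ← sub_eq_zero, ← map_sub,
        Algebra.algebraMap_eq_smul_one]
      exact smul_sec_eq_zero (pullback.snd U.ι (qMap t n)) (uk_snd t n) (hfam n i j) _
  choose v hv using hglue
  have hvL : ∀ n, sy.ρ n (v (n + 1)) = v n := fun n => by
    refine sub_eq_zero.1 (torsFree_sec x (uk t U n) (pieces_Uk t hU n).1 _ fun i => ?_)
    obtain ⟨p, hp⟩ := hcomp n i
    refine ⟨p + k n + k (n + 1), ?_⟩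
    rw [smul_sub, ← map_smul (sy.ρ n), show p + k n + k (n + 1) = (p + k n) + k (n + 1) from rfl, pow_add, mul_smul,
      hv, map_smul, AlgHom.commutes, show x i ^ (p + k n) * x i ^ k (n + 1) = (x i ^ p * x i ^ k (n + 1)) * x i ^ k n by ring,
      mul_smul _ (x i ^ k n), hv, Algebra.smul_def, Algebra.smul_def, ← map_mul, ← map_mul, ← map_sub,
      Algebra.algebraMap_eq_smul_one]
    refine smul_sec_eq_zero (pullback.snd U.ι (qMap t n)) (uk_snd t n) ?_ _
    rw [show x i ^ (p + k n) * a (n + 1) i - x i ^ p * x i ^ k (n + 1) * a n i =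
      x i ^ p * (x i ^ k n * a (n + 1) i - x i ^ k (n + 1) * a n i) by ring]
    exact hp
  obtain ⟨b, hb⟩ := hgL ⟨v, hvL⟩
  refine ⟨h * b, fun n i => ?_⟩
  have hb' : algebraMap A (sy.M n) b = g • v n := congrFun (congrArg Subtype.val hb) n
  refine (uk_kernel_coker t hU n).1 _ ?_ i
  show algebraMap A (sy.M n) (g * h * a n i - x i ^ k n * (h * b)) = 0
  rw [map_sub, map_mul, map_mul, map_mul, map_mul, hb', ← hv n i, Algebra.smul_def, Algebra.smul_def]
  ring

end Groth.Agent.Lef25
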