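import Groth.Agent.Lib.Lef25.Finite
import Groth.Agent.Lib.Pur25.Sections
import Mathlib.Algebra.Category.CommAlgCat.Basic

/-!
# Sections of schemes covered by basic opens of functions from the base
-/

set_option autoImplicit false
set_option linter.style.haveILetI false

universe u

open CategoryTheory CategoryTheory.Limits AlgebraicGeometry TopologicalSpace Opposite IsLocalRing

noncomputable section

namespace Groth.Agent.Lef25

open Groth.Agent.Pur25

section

variable {B : Type u} [CommRing B] {ι : Type} (x : ι → B) {Z : Scheme.{u}} (g : Z ⟶ Spec (CommRingCat.of B))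

/-- The global sections as an algebra over the base. -/
def secAlg : CommAlgCat.{u} B :=
  letI := (gΓ g).hom.toAlgebra
  CommAlgCat.of B Γ(Z, ⊤)

/-- The pieces of the cover. -/
def piece (i : ι) : Z.Opens := Z.basicOpen (gΓ g (x i))

/-- Restriction of global sections. -/
def res (W : Z.Opens) : secAlg g →+* Γ(Z, W) := (Z.presheaf.map (homOfLE (le_top : W ≤ ⊤)).op).hom

/-- The base mapping to sections. -/
def resB (W : Z.Opens) : B →+* Γ(Z, W) := (res g W).comp (algebraMap B (secAlg g))

theorem res_smul (W : Z.Opens) (c : B) (r : secAlg g) : res g W (c • r) = resB g W c * res g W r := by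
  rw [Algebra.smul_def, map_mul]
  rfl

theorem isUnit_resB {W : Z.Opens} {i : ι} (hW : W ≤ piece x g i) : IsUnit (resB g W (x i)) := by
  have h := (AlgebraicGeometry.RingedSpace.isUnit_res_basicOpen Z.toRingedSpace (gΓ g (x i))).map
    (Z.presheaf.map (homOfLE hW).op).hom
  convert h using 1
  show Z.presheaf.map _ (gΓ g (x i)) = (Z.presheaf.map _ ≫ Z.presheaf.map _) (gΓ g (x i))
  rw [← Functor.map_comp]
  rfl

theorem res_injective (hcov : ∀ z : Z, ∃ i, z ∈ piece x g i) {r s : secAlg g}
    (h : ∀ i, res g (piece x g i) r = res g (piece x g i) s) : r = s :=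
  Z.sheaf.eq_of_locally_eq' (piece x g) ⊤ (fun i => homOfLE le_top) (fun z _ => Opens.mem_iSup.2 (hcov z)) r s h

theorem torsFree_sec (hcov : ∀ z : Z, ∃ i, z ∈ piece x g i) : TorsFree x (secAlg g) := fun r hr => by
  refine res_injective x g hcov fun i => ?_
  obtain ⟨p, hp⟩ := hr i
  have h := congrArg (res g (piece x g i)) hp
  rw [res_smul, map_zero, map_pow] at h
  rw [map_zero]
  exact ((isUnit_resB x g le_rfl).pow p).mul_right_eq_zero.1 h

theorem glue_sec (hcov : ∀ z : Z, ∃ i, z ∈ piece x g i) (k : ℕ) (m : ι → secAlg g) (hm : IsFam x k m) :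
    ∃ r : secAlg g, ∀ i, x i ^ k • r = m i := by
  let W := piece x g
  have hu : ∀ i, IsUnit (resB g (W i) (x i) ^ k) := fun i => (isUnit_resB x g le_rfl).pow k
  let s : ∀ i, Γ(Z, W i) := fun i => ↑((hu i).unit⁻¹) * res g (W i) (m i)
  have hs : ∀ i, resB g (W i) (x i) ^ k * s i = res g (W i) (m i) := fun i => by
    simp only [s, ← mul_assoc]
    rw [IsUnit.mul_val_inv, one_mul]
  have hres : ∀ {V V' : Z.Opens} (hle : V ≤ V') (r : secAlg g),
      (Z.presheaf.map (homOfLE hle).op) (res g V' r) = res g V r := fun hle r => by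
    show (Z.presheaf.map _ ≫ Z.presheaf.map _) _ = _
    rw [← Functor.map_comp]
    rfl
  have hresB : ∀ {V V' : Z.Opens} (hle : V ≤ V') (c : B),
      (Z.presheaf.map (homOfLE hle).op) (resB g V' c) = resB g V c := fun hle c => hres hle _
  have hcompat : TopCat.Presheaf.IsCompatible Z.sheaf.1 W s := by
    intro i j
    have ei := congrArg (Z.presheaf.map (homOfLE (inf_le_left : W i ⊓ W j ≤ W i)).op) (hs i)
    have ej := congrArg (Z.presheaf.map (homOfLE (inf_le_right : W i ⊓ W j ≤ W j)).op) (hs j)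
    rw [map_mul, map_pow, hresB, hres] at ei ej
    have hf := congrArg (res g (W i ⊓ W j)) (hm i j)
    rw [res_smul, res_smul, map_pow, map_pow] at hf
    have hui : IsUnit (resB g (W i ⊓ W j) (x i) ^ k) := (isUnit_resB x g inf_le_left).pow k
    have huj : IsUnit (resB g (W i ⊓ W j) (x j) ^ k) := (isUnit_resB x g inf_le_right).pow k
    refine (hui.mul huj).mul_left_cancel ?_
    show _ * (Z.presheaf.map (homOfLE (inf_le_left : W i ⊓ W j ≤ W i)).op) (s i) =
      _ * (Z.presheaf.map (homOfLE (inf_le_right : W i ⊓ W j ≤ W j)).op) (s j)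
    linear_combination (resB g (W i ⊓ W j) (x j) ^ k) * ei - (resB g (W i ⊓ W j) (x i) ^ k) * ej + hf
  obtain ⟨r, hr, -⟩ := Z.sheaf.existsUnique_gluing' W ⊤ (fun i => homOfLE le_top)
    (fun z _ => Opens.mem_iSup.2 (hcov z)) s hcompat
  let r' : secAlg g := r
  refine ⟨r', fun i => res_injective x g hcov fun j => ?_⟩
  have hrj : res g (W j) r' = s j := hr j
  have hf := congrArg (res g (W j)) (hm i j)
  rw [res_smul, res_smul, map_pow, map_pow] at hf
  rw [res_smul, map_pow, hrj]
  refine (hu j).mul_left_cancel ?_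
  linear_combination (resB g (W j) (x i) ^ k) * hs j - hf

theorem good_sec {B : Type u} [CommRing B] [IsLocalRing B] [IsNoetherianRing B] {ι : Type} [Finite ι] {x : ι → B}
    (hx : Ideal.span (Set.range x) = maximalIdeal B) {Z : Scheme.{u}} (g : Z ⟶ Spec (CommRingCat.of B))
    (hcov : ∀ z : Z, ∃ i, z ∈ piece x g i) : CIPic27.Good B (secAlg g) :=
  good_of_glue hx _ (torsFree_sec x g hcov) (glue_sec x g hcov)

variable [CompactSpace Z] [QuasiSeparatedSpace Z]

theorem exists_pow_smul_eq_zero (i : ι) {r : secAlg g} (hr : res g (piece x g i) r = 0) :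
    ∃ p : ℕ, x i ^ p • r = 0 := by
  letI : Algebra Γ(Z, ⊤) Γ(Z, piece x g i) := (Z.presheaf.map (homOfLE le_top).op).hom.toAlgebra
  haveI : IsLocalization.Away (gΓ g (x i)) Γ(Z, piece x g i) :=
    isLocalization_basicOpen_of_qcqs isCompact_univ isQuasiSeparated_univ _
  obtain ⟨⟨_, n, rfl⟩, hn⟩ := IsLocalization.exists_of_eq (M := Submonoid.powers (gΓ g (x i)))
    (S := Γ(Z, piece x g i)) (x := (r : Γ(Z, ⊤))) (y := 0) (hr.trans (map_zero _).symm)
  refine ⟨n, ?_⟩
  rw [Algebra.smul_def, map_pow]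
  exact hn.trans (mul_zero _)

theorem exists_pow_mul_eq_res (i : ι) (s : Γ(Z, piece x g i)) :
    ∃ (p : ℕ) (w : secAlg g), resB g (piece x g i) (x i) ^ p * s = res g (piece x g i) w := by
  letI : Algebra Γ(Z, ⊤) Γ(Z, piece x g i) := (Z.presheaf.map (homOfLE le_top).op).hom.toAlgebra
  haveI : IsLocalization.Away (gΓ g (x i)) Γ(Z, piece x g i) :=
    isLocalization_basicOpen_of_qcqs isCompact_univ isQuasiSeparated_univ _
  obtain ⟨p, w, hw⟩ := IsLocalization.Away.surj (gΓ g (x i)) s
  exact ⟨p, w, by rw [mul_comm]; exact hw⟩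

end

/-- An ideal containing powers of generators of the maximal ideal. -/
theorem exists_pow_le_of_forall {B : Type u} [CommRing B] [IsLocalRing B] [IsNoetherianRing B] {ι : Type} {x : ι → B}
    (hx : Ideal.span (Set.range x) = maximalIdeal B) (I : Ideal B) (h : ∀ i, ∃ p, x i ^ p ∈ I) :
    ∃ K, maximalIdeal B ^ K ≤ I := by
  refine Ideal.exists_pow_le_of_le_radical_of_fg ?_ (IsNoetherian.noetherian _)
  rw [← hx, Ideal.span_le]
  rintro _ ⟨i, rfl⟩
  exact h i

end Groth.Agent.Lef25
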