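import Groth.Agent.Lib.Lef25.Glue
import Groth.Agent.S0391
import Groth.Prelude.Def_FEt
import Mathlib.RingTheory.Smooth.Fiber
import Mathlib.RingTheory.Spectrum.Prime.FreeLocus
import Mathlib.RingTheory.Kaehler.TensorProduct
import Mathlib.AlgebraicGeometry.Pullbacks

/-!
# Étaleness near a hypersurface from étaleness modulo its equation
-/

set_option autoImplicit false
set_option linter.style.haveILetI false

universe u

open TensorProduct IsLocalRing CategoryTheory CategoryTheory.Limits AlgebraicGeometry

noncomputable section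

namespace Groth.Agent.Lef25

/-- A finite algebra over a noetherian local ring, étale modulo a regular element, is étale. -/
theorem etale_of_etale_mod {R S : Type u} [CommRing R] [IsLocalRing R] [IsNoetherianRing R] [CommRing S]
    [Algebra R S] [Module.Finite R S] {t : R} (htm : t ∈ maximalIdeal R) (htS : ∀ s : S, t • s = 0 → s = 0)
    (h : Algebra.Etale (R ⧸ Ideal.span {t}) ((R ⧸ Ideal.span {t}) ⊗[R] S)) :
    Algebra.Etale R S ∧ Module.Free R S := by
  have hI : Ideal.span {t} ≠ ⊤ := fun he =>
    (maximalIdeal.isMaximal R).ne_top (top_unique (he ▸ (Ideal.span_singleton_le_iff_mem _).2 htm))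
  haveI : Module.Flat R S := by
    refine Groth.Agent.S0391.result (S := R) (Ideal.span {t}) hI ?_ inferInstance
    rw [injective_iff_map_eq_zero]
    intro z hz
    obtain ⟨s, rfl⟩ : ∃ s : S, z = (⟨t, Ideal.mem_span_singleton_self t⟩ : Ideal.span {t}) ⊗ₜ[R] s := by
      induction z using TensorProduct.induction_on with
      | zero => exact ⟨0, (tmul_zero _ _).symm⟩
      | tmul a s =>
        obtain ⟨c, hc⟩ := Ideal.mem_span_singleton'.1 a.2
        refine ⟨c • s, ?_⟩
        rw [← smul_tmul]
        exact congrArg (· ⊗ₜ[R] s) (Subtype.ext hc.symm)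
      | add a b ha hb =>
        -- both summands are multiples of the generator
        have key : ∀ w : Ideal.span {t} ⊗[R] S, ∃ s : S, w = (⟨t, Ideal.mem_span_singleton_self t⟩ : Ideal.span {t}) ⊗ₜ[R] s := by
          intro w
          induction w using TensorProduct.induction_on with
          | zero => exact ⟨0, (tmul_zero _ _).symm⟩
          | tmul a s =>
            obtain ⟨c, hc⟩ := Ideal.mem_span_singleton'.1 a.2
            refine ⟨c • s, ?_⟩
            rw [← smul_tmul]
            exact congrArg (· ⊗ₜ[R] s) (Subtype.ext hc.symm)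
          | add a b ha hb =>
            obtain ⟨s, rfl⟩ := ha
            obtain ⟨s', rfl⟩ := hb
            exact ⟨s + s', (tmul_add _ _ _).symm⟩
        exact key (a + b)
    have h0 := congrArg (TensorProduct.lid R S) hz
    rw [LinearMap.rTensor_tmul, TensorProduct.lid_tmul, map_zero] at h0
    rw [htS s h0, tmul_zero]
  haveI : Algebra.FormallyUnramified R S := by
    rw [Algebra.formallyUnramified_iff]
    haveI : Module.Finite R Ω[S⁄R] := Module.Finite.trans S _
    letI : Algebra S ((R ⧸ Ideal.span {t}) ⊗[R] S) := Algebra.TensorProduct.rightAlgebra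
    haveI : Subsingleton ((R ⧸ Ideal.span {t}) ⊗[R] Ω[S⁄R]) :=
      (KaehlerDifferential.tensorKaehlerEquivBase R (R ⧸ Ideal.span {t}) S
        ((R ⧸ Ideal.span {t}) ⊗[R] S)).subsingleton
    refine subsingleton_of_forall_eq 0 fun ω => ?_
    have hle : (⊤ : Submodule R Ω[S⁄R]) ≤ Ideal.span {t} • ⊤ := fun w _ => by
      have := (TensorProduct.quotTensorEquivQuotSMul Ω[S⁄R] (Ideal.span {t})).symm.subsingleton
      exact (Submodule.Quotient.mk_eq_zero _).1 (Subsingleton.elim (Submodule.Quotient.mk w) 0)
    have := Submodule.eq_bot_of_le_smul_of_le_jacobson_bot (Ideal.span {t}) ⊤ Module.Finite.fg_top hle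
      (((Ideal.span_singleton_le_iff_mem _).2 htm).trans (IsLocalRing.maximalIdeal_le_jacobson _))
    exact (Submodule.mem_bot R).1 (this ▸ Submodule.mem_top)
  haveI : Algebra.FinitePresentation R S := Algebra.FinitePresentation.of_finiteType.1 inferInstance
  exact ⟨Algebra.Etale.of_formallyUnramified_of_flat, Module.free_of_flat_of_isLocalRing⟩

/-- A finite algebra which is étale modulo `t` after inverting `a` is étale near every prime containing `t`
and not `a`. -/
theorem exists_etale_away {B X : Type u} [CommRing B] [IsNoetherianRing B] [CommRing X] [Algebra B X]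
    [Module.Finite B X] {t a : B} (htf : ∀ z : X, t • z = 0 → z = 0)
    (h : Algebra.Etale (Localization.Away (Ideal.Quotient.mk (Ideal.span {t}) a))
      (Localization.Away (Ideal.Quotient.mk (Ideal.span {t}) a) ⊗[B] X))
    (p : PrimeSpectrum B) (htp : t ∈ p.asIdeal) (hap : a ∉ p.asIdeal) :
    ∃ s : B, s ∉ p.asIdeal ∧ Algebra.Etale (Localization.Away s) (Localization.Away s ⊗[B] X) := by
  let Q := B ⧸ Ideal.span {t}
  let Qa := Localization.Away (Ideal.Quotient.mk (Ideal.span {t}) a)
  let R := Localization.AtPrime p.asIdeal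
  let tR := algebraMap B R t
  have htm : tR ∈ maximalIdeal R := (IsLocalization.AtPrime.to_map_mem_maximal_iff R p.asIdeal t).2 htp
  let QR := R ⧸ Ideal.span {tR}
  let q : Q →+* QR := Ideal.Quotient.lift (Ideal.span {t})
    ((Ideal.Quotient.mk (Ideal.span {tR})).comp (algebraMap B R)) fun b hb => by
      obtain ⟨c, rfl⟩ := Ideal.mem_span_singleton'.1 hb
      rw [RingHom.comp_apply, Ideal.Quotient.eq_zero_iff_mem, map_mul]
      exact Ideal.mem_span_singleton'.2 ⟨_, rfl⟩
  have hqa : IsUnit (q (Ideal.Quotient.mk _ a)) := by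
    show IsUnit (Ideal.Quotient.mk (Ideal.span {tR}) (algebraMap B R a))
    exact (IsLocalization.map_units R (⟨a, hap⟩ : p.asIdeal.primeCompl)).map _
  letI : Algebra Qa QR := (IsLocalization.Away.lift (Ideal.Quotient.mk (Ideal.span {t}) a) hqa).toAlgebra
  haveI : IsScalarTower B Qa QR := IsScalarTower.of_algebraMap_eq fun b => by
    show _ = IsLocalization.Away.lift (Ideal.Quotient.mk (Ideal.span {t}) a) hqa (algebraMap Q Qa (Ideal.Quotient.mk _ b))
    rw [IsLocalization.Away.lift_eq]
    rfl
  haveI hE : Algebra.Etale QR (QR ⊗[Qa] (Qa ⊗[B] X)) := inferInstance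
  let e : QR ⊗[Qa] (Qa ⊗[B] X) ≃ₐ[QR] QR ⊗[R] (R ⊗[B] X) :=
    (Algebra.TensorProduct.cancelBaseChange B Qa QR QR X).trans
      (Algebra.TensorProduct.cancelBaseChange B R QR QR X).symm
  haveI hE' : Algebra.Etale QR (QR ⊗[R] (R ⊗[B] X)) := Algebra.Etale.of_equiv (A := QR ⊗[Qa] (Qa ⊗[B] X)) e
  have htR : ∀ z : R ⊗[B] X, tR • z = 0 → z = 0 := by
    let μ : X →ₗ[B] X := t • LinearMap.id
    have hinj : Function.Injective (μ.lTensor R) :=
      Module.Flat.lTensor_preserves_injective_linearMap μ ((injective_iff_map_eq_zero μ).2 htf)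
    have heq : ∀ z : R ⊗[B] X, μ.lTensor R z = tR • z := fun z => by
      induction z using TensorProduct.induction_on with
      | zero => simp
      | tmul r x =>
        rw [LinearMap.lTensor_tmul, LinearMap.smul_apply, LinearMap.id_apply, TensorProduct.tmul_smul,
          algebraMap_smul]
      | add u v hu hv => rw [map_add, smul_add, hu, hv]
    intro z hz
    refine hinj ?_
    rw [map_zero, heq, hz]
  haveI : Module.Finite R (R ⊗[B] X) := inferInstance
  obtain ⟨het, hfree⟩ := etale_of_etale_mod htm htR hE'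
  haveI : Module.FinitePresentation B X := Module.finitePresentation_of_finite B X
  -- the free locus and the complement of the support of the differentials
  have hp1 : p ∈ Module.freeLocus B X := by
    show Module.Free R (LocalizedModule p.asIdeal.primeCompl X)
    exact Module.Free.of_equiv ((IsLocalizedModule.isBaseChange p.asIdeal.primeCompl R
      (LocalizedModule.mkLinearMap p.asIdeal.primeCompl X)).equiv)
  letI : Algebra X (R ⊗[B] X) := Algebra.TensorProduct.rightAlgebra
  haveI : Subsingleton Ω[(R ⊗[B] X)⁄R] := (Algebra.formallyUnramified_iff _ _).1 inferInstance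
  haveI : Subsingleton (R ⊗[B] Ω[X⁄B]) := (KaehlerDifferential.tensorKaehlerEquivBase B R X (R ⊗[B] X)).subsingleton
  haveI : Module.Finite B Ω[X⁄B] := Module.Finite.trans X _
  have hp2 : p ∉ Module.support B Ω[X⁄B] := by
    rw [Module.notMem_support_iff]
    exact ((IsLocalizedModule.isBaseChange p.asIdeal.primeCompl R
      (LocalizedModule.mkLinearMap p.asIdeal.primeCompl Ω[X⁄B])).equiv).symm.subsingleton
  have hopen : IsOpen (Module.freeLocus B X ∩ (Module.support B Ω[X⁄B])ᶜ) :=
    Module.isOpen_freeLocus.inter (Module.isClosed_support (R := B) (M := Ω[X⁄B])).isOpen_compl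
  obtain ⟨_, ⟨_, ⟨s, rfl⟩, rfl⟩, hps, hsub⟩ :=
    PrimeSpectrum.isBasis_basic_opens.exists_subset_of_mem_open
      (show p ∈ Module.freeLocus B X ∩ (Module.support B Ω[X⁄B])ᶜ from ⟨hp1, hp2⟩) hopen
  refine ⟨s, hps, ?_⟩
  let Bs := Localization.Away s
  have hproj : Module.Projective Bs (LocalizedModule (Submonoid.powers s) X) :=
    Module.basicOpen_subset_freeLocus_iff.1 fun q hq => (hsub hq).1
  haveI : Module.Projective Bs (Bs ⊗[B] X) :=
    Module.Projective.of_equiv ((IsLocalizedModule.isBaseChange (Submonoid.powers s) Bs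
      (LocalizedModule.mkLinearMap (Submonoid.powers s) X)).equiv).symm
  letI : Algebra X (Bs ⊗[B] X) := Algebra.TensorProduct.rightAlgebra
  haveI : Algebra.FormallyUnramified Bs (Bs ⊗[B] X) := by
    rw [Algebra.formallyUnramified_iff]
    haveI : Subsingleton (LocalizedModule (Submonoid.powers s) Ω[X⁄B]) := by
      rw [LocalizedModule.subsingleton_iff]
      have hs : s ∈ (Module.annihilator B Ω[X⁄B]).radical := by
        rw [← PrimeSpectrum.vanishingIdeal_zeroLocus_eq_radical, ← Module.support_eq_zeroLocus,
          PrimeSpectrum.mem_vanishingIdeal]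
        intro q hq
        by_contra hsq
        exact (hsub hsq).2 hq
      obtain ⟨N, hN⟩ := hs
      exact fun ω => ⟨s ^ N, ⟨N, rfl⟩, Module.mem_annihilator.1 hN ω⟩
    haveI : Subsingleton (Bs ⊗[B] Ω[X⁄B]) := ((IsLocalizedModule.isBaseChange (Submonoid.powers s) Bs
      (LocalizedModule.mkLinearMap (Submonoid.powers s) Ω[X⁄B])).equiv).subsingleton
    exact (KaehlerDifferential.tensorKaehlerEquivBase B Bs X (Bs ⊗[B] X)).symm.subsingleton
  haveI : IsNoetherianRing Bs := IsLocalization.isNoetherianRing (Submonoid.powers s) _ inferInstance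
  haveI : Algebra.FinitePresentation Bs (Bs ⊗[B] X) := Algebra.FinitePresentation.of_finiteType.1 inferInstance
  exact Algebra.Etale.of_formallyUnramified_of_flat

end Groth.Agent.Lef25
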