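import Groth.Agent.Lib.Lef25.Tower
import Groth.Agent.Lib.Lef25.Local
import Groth.Agent.Lib.PurityExt25.Main
import Groth.Agent.Lib.RelPure25.Stalk
import Groth.Agent.Lib.CIPic27.LocalTools
import Groth.Agent.Lib.Pur25.Extend

/-!
# Effective Lefschetz for finite étale covers of punctured spectra
-/

set_option autoImplicit false
set_option linter.style.haveILetI false

universe u

open CategoryTheory CategoryTheory.Limits AlgebraicGeometry TopologicalSpace Opposite IsLocalRing
open scoped TensorProduct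

noncomputable section

namespace Groth.Agent.Lef25

open Groth.Agent.LocCohLib Groth.Agent.Pur25

variable {B : Type u} [CommRing B] [IsNoetherianRing B] [IsLocalRing B] (t : B) {ι : Type} [Finite ι] {x : ι → B}
  {U : (Spec (CommRingCat.of B)).Opens}

set_option maxHeartbeats 1600000 in
/-- A lift of a cover of the punctured hypersurface to a finite algebra over the ring. -/
theorem exists_square (V₀ : FEt.Cat (Uk t U 0)) (hU : ∀ q : PrimeSpectrum B, q ∈ U ↔ ∃ i, x i ∉ q.asIdeal)
    (hx : Ideal.span (Set.range x) = maximalIdeal B) [IsAdicComplete (Ideal.span {t}) B]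
    (hreg : ∀ b : B, t * b = 0 → b = 0)
    (h1 : maximalIdeal B ≤ (Module.annihilator B (LocCoh.H (maximalIdeal B) 1 (B ⧸ Ideal.span {t}))).radical)
    (h2 : maximalIdeal B ≤ (Module.annihilator B (LocCoh.H (maximalIdeal B) 2 (B ⧸ Ideal.span {t}))).radical) :
    ∃ (X : CommAlgCat.{u} B) (_ : Module.Finite B X) (c₀ : V₀.left ⟶ Spec (CommRingCat.of X)),
      (∀ a : X, t • a = 0 → a = 0) ∧
      IsPullback c₀ V₀.hom (Spec.map (CommRingCat.ofHom (algebraMap B X)))
        (pullback.snd U.ι (qMap t 0) ≫ qMap t 0) := by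
  obtain ⟨X, hX, φ, htf, hker, hcok⟩ := exists_algebra t V₀ hU hx hreg h1 h2
  refine ⟨X, hX, ?_⟩
  let Q := B ⧸ thick t 0
  let g := gk t V₀ 0
  haveI := compactSpace_punctured hU
  haveI : CompactSpace (cover t V₀ 0).left := compactSpace_cover t V₀ 0
  haveI : QuasiSeparatedSpace (cover t V₀ 0).left := quasiSeparated_cover t V₀ 0
  obtain ⟨hcov, haff⟩ := pieces t V₀ hU 0
  let θ : Q →ₐ[B] secAlg g :=
    { (gΓ (gk' t V₀ 0)).hom with
      commutes' := fun b => by
        show gΓ (gk' t V₀ 0) (Ideal.Quotient.mk _ b) = gΓ (gk t V₀ 0) b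
        rw [← gk'_comp, gΓ_comp] }
  let ρ : Q ⊗[B] X →ₐ[B] secAlg g := Algebra.TensorProduct.lift θ φ fun _ _ => Commute.all _ _
  have hρ1 : ∀ a : X, ρ ((1 : Q) ⊗ₜ[B] a) = φ a := fun a => by
    rw [Algebra.TensorProduct.lift_tmul, map_one, one_mul]
  have hρinj : ∀ z : Q ⊗[B] X, ρ z = 0 → z = 0 := fun z hz => by
    obtain ⟨a, rfl⟩ := TensorProduct.mk_surjective B X Q Ideal.Quotient.mk_surjective z
    obtain ⟨b, rfl⟩ := hker a ((hρ1 a).symm.trans hz)
    show (1 : Q) ⊗ₜ[B] (t • b) = 0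
    rw [← TensorProduct.smul_tmul, Algebra.smul_def, mul_one,
      show algebraMap B Q t = 0 from Ideal.Quotient.eq_zero_iff_mem.2 (Ideal.mem_span_singleton_self t),
      TensorProduct.zero_tmul]
  have hρcok : ∀ (r : Γ((cover t V₀ 0).left, ⊤)) (i : ι),
      ∃ (p : ℕ) (z : Q ⊗[B] X), (ρ.toRingHom z : Γ((cover t V₀ 0).left, ⊤)) = gΓ g (x i) ^ p * r := fun r i => by
    let r' : secAlg g := r
    obtain ⟨k, hk⟩ := hcok (Submodule.Quotient.mk r')
    have hxi : x i ^ k ∈ maximalIdeal B ^ k := Ideal.pow_mem_pow (hx ▸ Ideal.subset_span ⟨i, rfl⟩) k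
    obtain ⟨a, ha⟩ := (Submodule.Quotient.mk_eq_zero _).1
      ((Submodule.Quotient.mk_smul _ (x i ^ k) r').trans (hk _ hxi))
    refine ⟨k, (1 : Q) ⊗ₜ[B] a, ((hρ1 a).trans ha).trans ?_⟩
    rw [Algebra.smul_def, map_pow]
    rfl
  obtain ⟨hj, hjg, hjr, -⟩ := isModel_of_torsion (A := B) (x := x) g (B := Q ⊗[B] X) ρ.toRingHom
    (fun b => ρ.commutes b) (fun z hz i => ⟨0, by rw [hρinj z hz, mul_zero]⟩) hρcok hcov haff
  let j := (cover t V₀ 0).left.toSpecΓ ≫ Spec.map (CommRingCat.ofHom ρ.toRingHom)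
  haveI : IsOpenImmersion j := hj
  let ρ₁ := Spec.map (CommRingCat.ofHom (algebraMap B (Q ⊗[B] X)))
  let ρQ := Spec.map (CommRingCat.ofHom (algebraMap Q (Q ⊗[B] X)))
  let incl := Spec.map (CommRingCat.ofHom (Algebra.TensorProduct.includeRight : X →ₐ[B] Q ⊗[B] X).toRingHom)
  have hρQ : ρQ ≫ qMap t 0 = ρ₁ := by
    rw [← Spec.map_comp]
    rfl
  let h : (cover t V₀ 0).left ⟶ (U : Scheme.{u}) := (cover t V₀ 0).hom ≫ pullback.fst U.ι (qMap t 0)
  haveI : IsFinite h := inferInstanceAs (IsFinite ((cover t V₀ 0).hom ≫ pullback.fst U.ι (qMap t 0)))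
  have P1 : IsPullback j h ρ₁ U.ι := by
    refine (IsOpenImmersion.isPullback h j U.ι ρ₁ hjg ?_).flip
    rw [Scheme.Opens.opensRange_ι]
    ext q
    show ρ₁ q ∈ U ↔ q ∈ Set.range j
    rw [hjr]
    exact hU _
  have hw : j ≫ ρQ = (cover t V₀ 0).hom ≫ pullback.snd U.ι (qMap t 0) := by
    rw [← cancel_mono (qMap t 0)]
    calc (j ≫ ρQ) ≫ qMap t 0 = j ≫ ρ₁ := by rw [Category.assoc, hρQ]
      _ = g := hjg
      _ = gk' t V₀ 0 ≫ qMap t 0 := (gk'_comp t V₀ 0).symm
  have P1' : IsPullback j (cover t V₀ 0).hom ρQ (pullback.snd U.ι (qMap t 0)) :=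
    IsPullback.of_bot (by rw [hρQ]; exact P1) hw (IsPullback.of_hasPullback U.ι (qMap t 0)).flip
  have P2 : IsPullback incl ρQ (Spec.map (CommRingCat.ofHom (algebraMap B X))) (qMap t 0) :=
    (isPullback_SpecMap_of_isPushout _ _ _ _ (CommRingCat.isPushout_tensorProduct B Q X)).flip
  exact ⟨j ≫ incl, htf, P1'.paste_horiz P2⟩

set_option maxHeartbeats 1600000 in
/-- A cover of a punctured hypersurface extends to an open neighbourhood of it. -/
theorem exists_cover_nhd (V₀ : FEt.Cat (Uk t U 0))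
    (hU : ∀ q : PrimeSpectrum B, q ∈ U ↔ ∃ i, x i ∉ q.asIdeal)
    (hx : Ideal.span (Set.range x) = maximalIdeal B) [IsAdicComplete (Ideal.span {t}) B]
    (hreg : ∀ b : B, t * b = 0 → b = 0)
    (h1 : maximalIdeal B ≤ (Module.annihilator B (LocCoh.H (maximalIdeal B) 1 (B ⧸ Ideal.span {t}))).radical)
    (h2 : maximalIdeal B ≤ (Module.annihilator B (LocCoh.H (maximalIdeal B) 2 (B ⧸ Ideal.span {t}))).radical) :
    ∃ (G : (U : Scheme.{u}).Opens) (E : Scheme.{u}) (e : E ⟶ (G : Scheme.{u})) (r₀ : Uk t U 0 ⟶ (G : Scheme.{u}))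
      (kE : V₀.left ⟶ E), IsFinite e ∧ Etale e ∧
      (∀ u : (U : Scheme.{u}), t ∈ (U.ι u : PrimeSpectrum B).asIdeal → u ∈ G) ∧
      r₀ ≫ G.ι = pullback.fst U.ι (qMap t 0) ∧ IsPullback kE V₀.hom e r₀ := by
  obtain ⟨X, _, c₀, htf, hsq⟩ := exists_square t V₀ hU hx hreg h1 h2
  let π := Spec.map (CommRingCat.ofHom (algebraMap B X))
  haveI : Etale V₀.hom := V₀.prop.2
  haveI : IsFinite π := (IsFinite.SpecMap_iff _).2 (RingHom.finite_algebraMap.2 inferInstance)
  let Q := B ⧸ thick t 0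
  -- étale modulo `t` away from the closed point
  have hmod : ∀ i, Algebra.Etale (Localization.Away (Ideal.Quotient.mk (Ideal.span {t}) (x i)))
      (Localization.Away (Ideal.Quotient.mk (Ideal.span {t}) (x i)) ⊗[B] X) := by
    intro i
    let Qa := Localization.Away (Ideal.Quotient.mk (Ideal.span {t}) (x i))
    let σ := Spec.map (CommRingCat.ofHom (algebraMap B Qa))
    let σQ : Spec (CommRingCat.of Qa) ⟶ Spec (CommRingCat.of Q) :=
      Spec.map (CommRingCat.ofHom (algebraMap (B ⧸ Ideal.span {t}) Qa))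
    have hσQ : σQ ≫ qMap t 0 = σ := by
      rw [← Spec.map_comp]
      rfl
    have hr : Set.range σ ⊆ Set.range U.ι := by
      rintro _ ⟨q, rfl⟩
      rw [Scheme.Opens.range_ι]
      refine (hU _).2 ⟨i, fun hm => ?_⟩
      have hu : IsUnit (algebraMap B Qa (x i)) := by
        rw [IsScalarTower.algebraMap_apply B (B ⧸ Ideal.span {t}) Qa]
        exact IsLocalization.Away.algebraMap_isUnit _
      exact q.isPrime.ne_top (Ideal.eq_top_of_isUnit_mem _ (hm : algebraMap B Qa (x i) ∈ q.asIdeal) hu)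
    let l : Spec (CommRingCat.of Qa) ⟶ Uk t U 0 :=
      pullback.lift (IsOpenImmersion.lift U.ι σ hr) σQ (by rw [IsOpenImmersion.lift_fac, hσQ])
    have P3 : IsPullback (Spec.map (CommRingCat.ofHom (Algebra.TensorProduct.includeRight : X →ₐ[B] Qa ⊗[B] X).toRingHom))
        (Spec.map (CommRingCat.ofHom (algebraMap Qa (Qa ⊗[B] X)))) π σ :=
      (isPullback_SpecMap_of_isPushout _ _ _ _ (CommRingCat.isPushout_tensorProduct B Qa X)).flip
    have hl : l ≫ pullback.snd U.ι (qMap t 0) ≫ qMap t 0 = σ := by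
      rw [pullback.lift_snd_assoc, hσQ]
    let m := hsq.lift (Spec.map (CommRingCat.ofHom (Algebra.TensorProduct.includeRight : X →ₐ[B] Qa ⊗[B] X).toRingHom))
      (Spec.map (CommRingCat.ofHom (algebraMap Qa (Qa ⊗[B] X))) ≫ l) (by rw [Category.assoc, hl]; exact P3.w)
    have P4 : IsPullback m (Spec.map (CommRingCat.ofHom (algebraMap Qa (Qa ⊗[B] X)))) V₀.hom l := by
      refine IsPullback.of_right ?_ (hsq.lift_snd _ _ _) hsq
      rw [hsq.lift_fst, hl]
      exact P3
    have het : Etale (Spec.map (CommRingCat.ofHom (algebraMap Qa (Qa ⊗[B] X)))) :=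
      MorphismProperty.of_isPullback P4 inferInstance
    exact RingHom.etale_algebraMap.1 ((HasRingHomProperty.Spec_iff (P := @Etale)).1 het)
  -- the étale locus
  let S := {s : B // Algebra.Etale (Localization.Away s) (Localization.Away s ⊗[B] X)}
  let D : S → (U : Scheme.{u}).Opens := fun s => U.ι ⁻¹ᵁ (PrimeSpectrum.basicOpen s.1 : (Spec (CommRingCat.of B)).Opens)
  let G : (U : Scheme.{u}).Opens := ⨆ s, D s
  have hG : ∀ u : (U : Scheme.{u}), t ∈ (U.ι u : PrimeSpectrum B).asIdeal → u ∈ G := fun u hu => by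
    obtain ⟨i, hi⟩ := (hU _).1 u.2
    obtain ⟨s, hs, het⟩ := exists_etale_away htf (hmod i) (U.ι u) hu hi
    exact Opens.mem_iSup.2 ⟨⟨s, het⟩, hs⟩
  let E := pullback π (G.ι ≫ U.ι)
  let e : E ⟶ (G : Scheme.{u}) := pullback.snd π (G.ι ≫ U.ι)
  haveI : IsFinite e := inferInstanceAs (IsFinite (pullback.snd π (G.ι ≫ U.ι)))
  haveI : Etale e := by
    refine IsZariskiLocalAtTarget.of_iSup_eq_top (P := @Etale) (fun s => G.ι ⁻¹ᵁ D s) ?_ fun s => ?_
    · refine eq_top_iff.2 fun u _ => ?_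
      obtain ⟨s, hs⟩ := Opens.mem_iSup.1 (show G.ι u ∈ ⨆ s, D s from u.2)
      exact Opens.mem_iSup.2 ⟨s, hs⟩
    · let V := G.ι ⁻¹ᵁ D s
      let Bs := Localization.Away s.1
      let σ := Spec.map (CommRingCat.ofHom (algebraMap B Bs))
      haveI : IsOpenImmersion σ := IsOpenImmersion.of_isLocalization s.1
      have hr : Set.range (V.ι ≫ G.ι ≫ U.ι) ⊆ Set.range σ := by
        rintro _ ⟨v, rfl⟩
        rw [show Set.range σ = (PrimeSpectrum.basicOpen s.1 : Set (PrimeSpectrum B)) from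
          PrimeSpectrum.localization_away_comap_range Bs s.1]
        exact v.2
      let l := IsOpenImmersion.lift σ (V.ι ≫ G.ι ≫ U.ι) hr
      have hl : l ≫ σ = V.ι ≫ G.ι ≫ U.ι := IsOpenImmersion.lift_fac _ _ _
      have P5 := (isPullback_morphismRestrict e V).flip.paste_horiz (IsPullback.of_hasPullback π (G.ι ≫ U.ι))
      rw [← hl] at P5
      haveI := s.2
      have P6 : IsPullback (Spec.map (CommRingCat.ofHom (Algebra.TensorProduct.includeRight : X →ₐ[B] Bs ⊗[B] X).toRingHom))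
          (Spec.map (CommRingCat.ofHom (algebraMap Bs (Bs ⊗[B] X)))) π σ :=
        (isPullback_SpecMap_of_isPushout _ _ _ _ (CommRingCat.isPushout_tensorProduct B Bs X)).flip
      have P7 : IsPullback (P6.lift _ ((e ∣_ V) ≫ l) (by rw [Category.assoc]; exact P5.w)) (e ∣_ V)
          (Spec.map (CommRingCat.ofHom (algebraMap Bs (Bs ⊗[B] X)))) l := by
        refine IsPullback.of_right ?_ (P6.lift_snd _ _ _) P6
        rw [P6.lift_fst]
        exact P5
      exact MorphismProperty.of_isPullback P7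
        ((HasRingHomProperty.Spec_iff (P := @Etale)).2 (RingHom.etale_algebraMap.2 inferInstance))
  have hr₀ : Set.range (pullback.fst U.ι (qMap t 0)) ⊆ Set.range G.ι := by
    rintro _ ⟨z, rfl⟩
    rw [Scheme.Opens.range_ι]
    refine hG _ ?_
    rw [show U.ι (pullback.fst U.ι (qMap t 0) z) = qMap t 0 (pullback.snd U.ι (qMap t 0) z) by
      rw [← Scheme.Hom.comp_apply, pullback.condition, Scheme.Hom.comp_apply]]
    show t ∈ Ideal.comap (Ideal.Quotient.mk (thick t 0)) _
    have h0 : Ideal.Quotient.mk (thick t 0) t = 0 :=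
      Ideal.Quotient.eq_zero_iff_mem.2 (show t ∈ thick t 0 from Ideal.mem_span_singleton_self t)
    let P : PrimeSpectrum (B ⧸ thick t 0) := pullback.snd U.ι (qMap t 0) z
    show Ideal.Quotient.mk (thick t 0) t ∈ P.asIdeal
    rw [h0]
    exact P.asIdeal.zero_mem
  let r₀ := IsOpenImmersion.lift G.ι (pullback.fst U.ι (qMap t 0)) hr₀
  have hr₀' : r₀ ≫ G.ι = pullback.fst U.ι (qMap t 0) := IsOpenImmersion.lift_fac _ _ _
  have hbase : r₀ ≫ G.ι ≫ U.ι = pullback.snd U.ι (qMap t 0) ≫ qMap t 0 := by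
    rw [reassoc_of% hr₀', pullback.condition]
  let kE : V₀.left ⟶ E := pullback.lift c₀ (V₀.hom ≫ r₀) (by rw [Category.assoc, hbase]; exact hsq.w)
  have P8 : IsPullback kE V₀.hom e r₀ := by
    refine IsPullback.of_right ?_ (pullback.lift_snd _ _ _) (IsPullback.of_hasPullback π (G.ι ≫ U.ι))
    rw [pullback.lift_fst, hbase]
    exact hsq
  exact ⟨G, E, e, r₀, kE, inferInstance, inferInstance, hG, hr₀', P8⟩

set_option maxHeartbeats 1600000 in
/-- Restriction from the punctured spectrum to a punctured hypersurface is essentially surjective. -/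
theorem exists_extension_hypersurface (V₀ : FEt.Cat (Uk t U 0))
    (hU : ∀ q : PrimeSpectrum B, q ∈ U ↔ ∃ i, x i ∉ q.asIdeal)
    (hx : Ideal.span (Set.range x) = maximalIdeal B) [IsAdicComplete (Ideal.span {t}) B] (ht : t ∈ maximalIdeal B)
    (hreg : ∀ b : B, t * b = 0 → b = 0)
    (h1 : maximalIdeal B ≤ (Module.annihilator B (LocCoh.H (maximalIdeal B) 1 (B ⧸ Ideal.span {t}))).radical)
    (h2 : maximalIdeal B ≤ (Module.annihilator B (LocCoh.H (maximalIdeal B) 2 (B ⧸ Ideal.span {t}))).radical)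
    (hp : ∀ P : Ideal (Localization.Away t), ∀ _ : P.IsMaximal, FEt.PurityHolds (Localization.AtPrime P)) :
    ∃ W : FEt.Cat (U : Scheme.{u}), Nonempty ((FEt.restrict (pullback.fst U.ι (qMap t 0))).obj W ≅ V₀) := by
  obtain ⟨G, E, e, r₀, kE, _, _, hG, hr₀', P8⟩ := exists_cover_nhd t V₀ hU hx hreg h1 h2
  haveI := compactSpace_punctured hU
  haveI : IsLocallyNoetherian (U : Scheme.{u}) := inferInstance
  haveI : AlgebraicGeometry.IsNoetherian (U : Scheme.{u}) := {}
  obtain ⟨W, w, tE, hw1, hw2, hpb⟩ := PurityExt25.exists_extension G (fun u hu => by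
    let p : PrimeSpectrum B := U.ι u
    have htp : t ∉ p.asIdeal := fun h => hu (hG u h)
    have hdisj : Disjoint ((Submonoid.powers t : Submonoid B) : Set B) (p.asIdeal : Set B) := by
      rw [Set.disjoint_left]
      rintro z ⟨n, rfl⟩ hz
      exact htp (p.isPrime.mem_of_pow_mem n hz)
    let P := p.asIdeal.map (algebraMap B (Localization.Away t))
    haveI hP : P.IsPrime := IsLocalization.isPrime_of_isPrime_disjoint (Submonoid.powers t) _ _ p.isPrime hdisj
    have hcomap : P.comap (algebraMap B (Localization.Away t)) = p.asIdeal :=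
      IsLocalization.comap_map_of_isPrime_disjoint (Submonoid.powers t) _ p.isPrime hdisj
    have hPmax : P.IsMaximal := by
      obtain ⟨M, hM, hPM⟩ := Ideal.exists_le_maximal P hP.ne_top
      suffices hle : M.comap (algebraMap B (Localization.Away t)) ≤ p.asIdeal by
        have hPM' : M ≤ P := by
          rw [← IsLocalization.map_comap (Submonoid.powers t) (Localization.Away t) M]
          exact Ideal.map_mono hle
        exact le_antisymm hPM' hPM ▸ hM
      by_contra hlt
      haveI := hM.isPrime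
      let q : PrimeSpectrum B := ⟨M.comap (algebraMap B (Localization.Away t)), inferInstance⟩
      have htq : t ∉ q.asIdeal := fun h => hM.ne_top (Ideal.eq_top_of_isUnit_mem _ h
        (IsLocalization.Away.algebraMap_isUnit t))
      have hpq : p.asIdeal < q.asIdeal :=
        lt_of_le_not_ge (hcomap.ge.trans (Ideal.comap_mono hPM)) hlt
      obtain ⟨q', hq', htq', hq'm⟩ := CIPic27.exists_prime_above ht hpq fun h => htq (h ht)
      have hq'U : q' ∈ U := (hU q').2 (by
        by_contra hne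
        push Not at hne
        refine hq'm ?_
        rw [← hx, Ideal.span_le]
        rintro _ ⟨i, rfl⟩
        exact hne i)
      have hsp : u ⤳ (⟨q', hq'U⟩ : (U : Scheme.{u})) :=
        U.ι.isOpenEmbedding.isInducing.specializes_iff.1 ((PrimeSpectrum.le_iff_specializes p q').1 hq')
      exact hu (hsp.mem_open G.2 (hG ⟨q', hq'U⟩ htq'))
    have key := hp P hPmax
    refine RelPure25.purityHolds_stalk_opens U u ?_
    haveI : IsLocalization.AtPrime (Localization.AtPrime P) p.asIdeal := by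
      have := IsLocalization.isLocalization_isLocalization_atPrime_isLocalization (Submonoid.powers t)
        (Localization.AtPrime P) P
      simpa only [hcomap] using this
    exact RelPure25.purityHolds_of_ringEquiv
      ((StructureSheaf.stalkIso B p).symm.toRingEquiv.trans
        (IsLocalization.algEquiv p.asIdeal.primeCompl (Localization.AtPrime p.asIdeal)
          (Localization.AtPrime P)).toRingEquiv) key) e
  refine ⟨MorphismProperty.Over.mk ⊤ w ⟨hw1, hw2⟩, ?_⟩
  have P9 := P8.paste_horiz hpb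
  rw [hr₀'] at P9
  exact ⟨MorphismProperty.Over.isoMk P9.isoPullback.symm (by rw [Iso.symm_hom]; exact P9.isoPullback_inv_snd)⟩

end Groth.Agent.Lef25
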