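import Groth.Agent.Lib.Lef25.FormalSec
import Groth.Agent.Lib.PureGr25.Clopen

/-!
# Clopen subsets of a formal neighbourhood spread out to neighbourhoods
-/

set_option autoImplicit false
set_option linter.style.haveILetI false

universe u

namespace Groth.Agent.Lef25

open Finset PrimeSpectrum Groth.Agent.Pur25

variable {A : Type u} [CommRing A] {ι : Type} [Finite ι] {x : ι → A} {t : A}

/-- Formal functions on `D(x) ∩ V(t)` come from `A` near `q`. -/
def NearAt (x : ι → A) (t : A) (q : PrimeSpectrum A) : Prop :=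
  ∃ g : A, g ∉ q.asIdeal ∧
    (∀ (k : ℕ → ℕ) (a : ℕ → ι → A),
      (∀ n (i j : ι), x j ^ k n * a n i - x i ^ k n * a n j ∈ thick t n) →
      (∀ n (i : ι), ∃ p : ℕ, x i ^ p * (x i ^ k n * a (n + 1) i - x i ^ k (n + 1) * a n i) ∈ thick t n) →
      ∃ b : A, ∀ n (i : ι), ∃ p : ℕ, x i ^ p * (g * a n i - x i ^ k n * b) ∈ thick t n) ∧
    ∀ b : A, (∀ n (i : ι), ∃ p : ℕ, x i ^ p * b ∈ thick t n) → g * b = 0

variable {B : Type u} [CommRing B] [Algebra A B] {κ : Type} (y : κ → A)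

local notation "am" => algebraMap A B

set_option maxHeartbeats 800000 in
/-- Relatively clopen subsets of the trace on `V(t)` extend to a neighbourhood. -/
theorem exists_clopen_nhd {r e : ℕ} (G : (Fin r → A) →ₗ[A] B) (s : κ → B →ₗ[A] (Fin r → A))
    (hs : ∀ j b, G (s j b) = y j ^ e • b)
    (hy : ∀ q : PrimeSpectrum A, t ∈ q.asIdeal → (∃ i, x i ∉ q.asIdeal) → ∃ j, y j ∉ q.asIdeal)
    (hnear : ∀ q : PrimeSpectrum A, t ∈ q.asIdeal → (∃ i, x i ∉ q.asIdeal) → NearAt x t q)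
    {O O' : Set (PrimeSpectrum B)} (hO : IsOpen O) (hO' : IsOpen O')
    (h : ∀ P : PrimeSpectrum B, am t ∈ P.asIdeal → (∃ i, am (x i) ∉ P.asIdeal) → (P ∈ O' ↔ P ∉ O)) :
    ∃ (W : Set (PrimeSpectrum A)) (D D' : Set (PrimeSpectrum B)), IsOpen W ∧ IsOpen D ∧ IsOpen D' ∧
      (∀ q : PrimeSpectrum A, t ∈ q.asIdeal → (∃ i, x i ∉ q.asIdeal) → q ∈ W) ∧
      (∀ P : PrimeSpectrum B, comap am P ∈ W → (P ∈ D' ↔ P ∉ D)) ∧
      ∀ P : PrimeSpectrum B, am t ∈ P.asIdeal → (∃ i, am (x i) ∉ P.asIdeal) → (P ∈ D ↔ P ∈ O) := by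
  cases nonempty_fintype ι
  set I : ℕ → Ideal B := fun n => (thick t n).map am with hI
  have hIpow : ∀ n, I n = (Ideal.span {t}).map am ^ (n + 1) := fun n => by
    simp only [hI, thick_eq, ← Ideal.map_pow, Ideal.span_singleton_pow]
  have hIq : ∀ (n : ℕ) (P : PrimeSpectrum B), I n ≤ P.asIdeal ↔ am t ∈ P.asIdeal := fun n P => by
    simp only [hI, thick_eq, Ideal.map_span, Set.image_singleton, Ideal.span_singleton_le_iff_mem, map_pow]
    exact ⟨fun hq => P.isPrime.mem_of_pow_mem _ hq, fun hq => P.asIdeal.pow_mem_of_mem hq _ (Nat.succ_pos n)⟩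
  choose k m hm hmm hmO using fun n => exists_fam_idem x (I n) hO hO' fun P hP hx => h P ((hIq n P).1 hP) hx
  let φ : κ → Fin r → B →ₗ[A] A := fun l a => LinearMap.proj a ∘ₗ s l
  have happ : ∀ (ψ : B →ₗ[A] A) (n : ℕ) {z : B}, z ∈ I n → ψ z ∈ thick t n := fun ψ n z hz => by
    rw [thick_eq, ← Ideal.span_singleton_pow]
    exact PureGr25.apply_mem ψ (n + 1) (by rwa [← hIpow])
  have hfam : ∀ l a n (i j : ι), x j ^ k n * φ l a (m n i) - x i ^ k n * φ l a (m n j) ∈ thick t n := by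
    intro l a n i j
    have := happ (φ l a) n (hm n i j)
    rw [← map_pow, ← map_pow, ← Algebra.smul_def, ← Algebra.smul_def, map_sub, map_smul, map_smul] at this
    exact this
  have hcomp : ∀ l a n (i : ι), ∃ p : ℕ,
      x i ^ p * (x i ^ k n * φ l a (m (n + 1) i) - x i ^ k (n + 1) * φ l a (m n i)) ∈ thick t n := by
    intro l a n i
    let Y := am (x i) ^ (k n + k (n + 1) + 1)
    let u := am (x i) ^ (k (n + 1) + 1) * m n i
    let v := am (x i) ^ (k n + 1) * m (n + 1) i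
    have hsub : I (n + 1) ≤ I n := Ideal.map_mono (thick_le t n)
    have hY : ∀ P : PrimeSpectrum B, Y ∉ P.asIdeal → am (x i) ∉ P.asIdeal := fun P hY hx =>
      hY (P.asIdeal.pow_mem_of_mem hx _ (Nat.succ_pos _))
    obtain ⟨Q, hQ⟩ := sat_sub_of_agree (I n) Y v u
      ⟨0, by
        rw [pow_zero, one_mul, show v * v - Y * v = am (x i) ^ (2 * (k n + 1)) *
          (m (n + 1) i * m (n + 1) i - am (x i) ^ k (n + 1) * m (n + 1) i) by simp only [v, Y]; ring]
        exact Ideal.mul_mem_left _ _ (hsub (hmm (n + 1) i))⟩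
      ⟨0, by
        rw [pow_zero, one_mul, show u * u - Y * u = am (x i) ^ (2 * (k (n + 1) + 1)) *
          (m n i * m n i - am (x i) ^ k n * m n i) by simp only [u, Y]; ring]
        exact Ideal.mul_mem_left _ _ (hmm n i)⟩
      (fun P hP hYP => by
        have hx := hY P hYP
        have h1 := hmO n i P hP hx
        have h2 := hmO (n + 1) i P ((hIq (n + 1) P).2 ((hIq n P).1 hP)) hx
        have key : ∀ (d : ℕ) (w : B), (am (x i) ^ d * w ∈ P.asIdeal ↔ w ∈ P.asIdeal) := fun d w =>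
          ⟨fun h => (P.isPrime.mem_or_mem h).resolve_left fun h' => hx (P.isPrime.mem_of_pow_mem _ h'),
            fun h => P.asIdeal.mul_mem_left _ h⟩
        rw [key, key]
        exact not_iff_not.1 (h2.symm.trans h1))
    have hQ' := happ (φ l a) n hQ
    set N := (k n + k (n + 1) + 1) * Q
    rw [show Y ^ Q * (v - u) = (x i ^ (N + (k n + 1))) • m (n + 1) i - (x i ^ (N + (k (n + 1) + 1))) • m n i by
      simp only [Algebra.smul_def, map_pow, Y, u, v, N]; ring, map_sub, map_smul, map_smul] at hQ'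
    refine ⟨N + 1, ?_⟩
    convert hQ' using 1
    simp only [smul_eq_mul]
    ring
  have hg := fun q ht hx => hnear q ht hx
  choose g hgq hgb hgz using hg
  choose j hj using hy
  let T := {q : PrimeSpectrum A // t ∈ q.asIdeal ∧ ∃ i, x i ∉ q.asIdeal}
  let γ : T → A := fun σ => g σ.1 σ.2.1 σ.2.2
  let lc : T → κ := fun σ => j σ.1 σ.2.1 σ.2.2
  choose b hb using fun (σ : T) (a : Fin r) =>
    hgb σ.1 σ.2.1 σ.2.2 k (fun n i => φ (lc σ) a (m n i)) (hfam (lc σ) a) (hcomp (lc σ) a)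
  let β : T → B := fun σ => G (b σ)
  let c : T → B := fun σ => am (γ σ) * am (y (lc σ)) ^ e
  have hβ : ∀ σ n i, ∃ p : ℕ, am (x i) ^ p * (am (x i) ^ k n * β σ - c σ * m n i) ∈ I n := by
    intro σ n i
    choose p hp using fun a => hb σ a n i
    refine ⟨univ.sup p, ?_⟩
    rw [show am (x i) ^ univ.sup p * (am (x i) ^ k n * β σ - c σ * m n i) =
      G (x i ^ univ.sup p • (x i ^ k n • b σ - γ σ • s (lc σ) (m n i))) by
        rw [map_smul, map_sub, map_smul, map_smul, hs]; simp only [Algebra.smul_def, map_pow, β, c, mul_assoc],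
      hIpow]
    refine PureGr25.apply_pi_mem G (n + 1) fun a => ?_
    rw [Ideal.span_singleton_pow, ← thick_eq]
    obtain ⟨d, hd⟩ := Nat.exists_eq_add_of_le (le_sup (f := p) (mem_univ a) : p a ≤ univ.sup p)
    show x i ^ univ.sup p * (x i ^ k n * b σ a - γ σ * φ (lc σ) a (m n i)) ∈ _
    rw [hd, show x i ^ (p a + d) * (x i ^ k n * b σ a - γ σ * φ (lc σ) a (m n i)) =
      -(x i ^ d) * (x i ^ p a * (γ σ * φ (lc σ) a (m n i) - x i ^ k n * b σ a)) by ring]
    exact Ideal.mul_mem_left _ _ (hp a)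
  let f : T → B := fun σ => am (y (lc σ)) * am (γ σ)
  have hz : ∀ ρ σ σ', am (y (lc ρ)) ^ e * (am (γ ρ) * (β σ * β σ' - c σ * β σ')) = 0 := by
    intro ρ σ σ'
    have h0 : ∀ a, γ ρ * φ (lc ρ) a (β σ * β σ' - c σ * β σ') = 0 := by
      intro a
      refine hgz ρ.1 ρ.2.1 ρ.2.2 _ fun n i => ?_
      obtain ⟨p, hp⟩ := hβ σ n i
      obtain ⟨p', hp'⟩ := hβ σ' n i
      have := happ (φ (lc ρ) a) n (z := am (x i) ^ (p + p' + 2 * k n) * (β σ * β σ' - c σ * β σ')) (by
        rw [show am (x i) ^ (p + p' + 2 * k n) * (β σ * β σ' - c σ * β σ') =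
          (am (x i) ^ p' * am (x i) ^ k n * β σ') * (am (x i) ^ p * (am (x i) ^ k n * β σ - c σ * m n i)) +
            (am (x i) ^ p * c σ * (m n i - am (x i) ^ k n)) *
              (am (x i) ^ p' * (am (x i) ^ k n * β σ' - c σ' * m n i)) +
            (am (x i) ^ (p + p') * c σ * c σ') * (m n i * m n i - am (x i) ^ k n * m n i) by ring]
        exact add_mem (add_mem (Ideal.mul_mem_left _ _ hp) (Ideal.mul_mem_left _ _ hp'))
          (Ideal.mul_mem_left _ _ (hmm n i)))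
      rw [← map_pow, ← Algebra.smul_def, map_smul] at this
      exact ⟨_, this⟩
    have h1 : γ ρ • s (lc ρ) (β σ * β σ' - c σ * β σ') = 0 := funext h0
    have h2 := congrArg G h1
    rw [map_smul, map_zero, hs, smul_smul, Algebra.smul_def, map_mul, map_pow] at h2
    linear_combination h2
  have hf : ∀ (σ : T) (P : PrimeSpectrum B), f σ ∉ P.asIdeal → c σ ∉ P.asIdeal ∧
      ∀ z : B, am (y (lc σ)) ^ e * (am (γ σ) * z) ∈ P.asIdeal → z ∈ P.asIdeal := fun σ P hP => by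
    have h1 : am (y (lc σ)) ∉ P.asIdeal := fun h => hP (P.asIdeal.mul_mem_right _ h)
    have h2 : am (γ σ) ∉ P.asIdeal := fun h => hP (P.asIdeal.mul_mem_left _ h)
    refine ⟨fun h => (P.isPrime.mem_or_mem h).elim h2 fun h' => h1 (P.isPrime.mem_of_pow_mem _ h'), fun z hzm => ?_⟩
    exact (P.isPrime.mem_or_mem ((P.isPrime.mem_or_mem hzm).resolve_left
      fun h' => h1 (P.isPrime.mem_of_pow_mem _ h'))).resolve_left h2
  have hcases : ∀ (σ : T) (P : PrimeSpectrum B), f σ ∉ P.asIdeal → β σ ∈ P.asIdeal ∨ β σ - c σ ∈ P.asIdeal :=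
    fun σ P hP => P.isPrime.mem_or_mem ((hf σ P hP).2 _ (by
      rw [show β σ * (β σ - c σ) = β σ * β σ - c σ * β σ by ring, hz]
      exact P.asIdeal.zero_mem))
  have hswitch : ∀ (σ σ' : T) (P : PrimeSpectrum B), f σ ∉ P.asIdeal → f σ' ∉ P.asIdeal →
      β σ ∈ P.asIdeal → β σ' ∈ P.asIdeal := fun σ σ' P hP hP' hσ => by
    have h2 : c σ * β σ' ∈ P.asIdeal := by
      have h3 : β σ * β σ' - c σ * β σ' ∈ P.asIdeal := (hf σ P hP).2 _ (by rw [hz]; exact P.asIdeal.zero_mem)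
      exact (Submodule.sub_mem_iff_right _ (P.asIdeal.mul_mem_right _ hσ)).1 h3
    exact (P.isPrime.mem_or_mem h2).resolve_left (hf σ P hP).1
  refine ⟨⋃ σ : T, (basicOpen (y (lc σ) * γ σ) : Set (PrimeSpectrum A)),
    ⋃ σ : T, (basicOpen (f σ * β σ) : Set (PrimeSpectrum B)),
    ⋃ σ : T, (basicOpen (f σ * (β σ - c σ)) : Set (PrimeSpectrum B)),
    isOpen_iUnion fun _ => (basicOpen _).2, isOpen_iUnion fun _ => (basicOpen _).2,
    isOpen_iUnion fun _ => (basicOpen _).2, ?_, ?_, ?_⟩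
  · intro q ht hx
    exact Set.mem_iUnion.2 ⟨⟨q, ht, hx⟩, fun hm => (q.isPrime.mem_or_mem hm).elim (hj q ht hx) (hgq q ht hx)⟩
  · intro P hP
    obtain ⟨σ, hσ⟩ := Set.mem_iUnion.1 hP
    have hfσ : f σ ∉ P.asIdeal := fun h' => hσ (show am (y (lc σ) * γ σ) ∈ P.asIdeal by rw [map_mul]; exact h')
    simp only [Set.mem_iUnion, SetLike.mem_coe, mem_basicOpen, not_exists, not_not]
    constructor
    · rintro ⟨σ', hσ'⟩ ρ
      by_cases hρ : f ρ ∈ P.asIdeal
      · exact P.asIdeal.mul_mem_right _ hρ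
      have h1 : f σ' ∉ P.asIdeal := fun h2 => hσ' (P.asIdeal.mul_mem_right _ h2)
      exact P.asIdeal.mul_mem_left _ (hswitch σ' ρ P h1 hρ
        ((hcases σ' P h1).resolve_right fun h4 => hσ' (P.asIdeal.mul_mem_left _ h4)))
    · intro hl
      refine ⟨σ, fun h2 => (hf σ P hfσ).1 ?_⟩
      have h3 := (P.isPrime.mem_or_mem (hl σ)).resolve_left hfσ
      have h4 := (P.isPrime.mem_or_mem h2).resolve_left hfσ
      simpa using P.asIdeal.sub_mem h3 h4
  · rintro P hPt ⟨i, hi⟩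
    have hiff : ∀ σ, f σ ∉ P.asIdeal → (β σ ∈ P.asIdeal ↔ P ∉ O) := fun σ hσ => by
      rw [hmO 0 i P ((hIq 0 P).2 hPt) hi, not_not]
      obtain ⟨d, hd⟩ := hβ σ 0 i
      have h3 : am (x i) ^ k 0 * β σ - c σ * m 0 i ∈ P.asIdeal :=
        (P.isPrime.mem_or_mem ((hIq 0 P).2 hPt hd)).resolve_left fun h => hi (P.isPrime.mem_of_pow_mem _ h)
      exact ⟨fun h2 => (P.isPrime.mem_or_mem ((Submodule.sub_mem_iff_right _ (P.asIdeal.mul_mem_left _ h2)).1 h3)).resolve_left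
          (hf σ P hσ).1,
        fun h2 => (P.isPrime.mem_or_mem ((Submodule.sub_mem_iff_left _ (P.asIdeal.mul_mem_left _ h2)).1 h3)).resolve_left
          fun h => hi (P.isPrime.mem_of_pow_mem _ h)⟩
    simp only [Set.mem_iUnion, SetLike.mem_coe, mem_basicOpen]
    constructor
    · rintro ⟨σ, hσ⟩
      have h1 : f σ ∉ P.asIdeal := fun h2 => hσ (P.asIdeal.mul_mem_right _ h2)
      by_contra hPO
      exact hσ (P.asIdeal.mul_mem_left _ ((hiff σ h1).2 hPO))
    · intro hPO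
      let q : PrimeSpectrum A := comap am P
      let σ : T := ⟨q, hPt, i, hi⟩
      have h1 : f σ ∉ P.asIdeal := fun h' => (P.isPrime.mem_or_mem h').elim (hj q hPt ⟨i, hi⟩) (hgq q hPt ⟨i, hi⟩)
      exact ⟨σ, fun h2 => (hiff σ h1).1 ((P.isPrime.mem_or_mem h2).resolve_left h1) hPO⟩

end Groth.Agent.Lef25
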