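import Groth.Agent.Lib.Lef25.DescHom
import Mathlib.AlgebraicGeometry.Noetherian

/-!
# Full faithfulness of restriction from the neighbourhoods of a subscheme
-/

set_option autoImplicit false
set_option linter.style.haveILetI false

universe u

open CategoryTheory CategoryTheory.Limits AlgebraicGeometry TopologicalSpace Opposite

noncomputable section

namespace Groth.Agent.Lef25

/-- A neighbourhood with no clopen part avoiding a given set. -/
theorem exists_small_nhd {X : Type u} [TopologicalSpace X] [NoetherianSpace X] (T : Set X) (V : Opens X) (hV : T ⊆ V) :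
    ∃ V₁ : Opens X, V₁ ≤ V ∧ T ⊆ V₁ ∧ ∀ S S' : Set X, IsOpen S → IsOpen S' → S ⊆ V₁ → S.Nonempty →
      S ∪ S' = V₁ → Disjoint S S' → (S ∩ T).Nonempty := by
  let P : Set (Closeds X) := {F | ∃ V₁ : Opens X, V₁ ≤ V ∧ T ⊆ V₁ ∧
    (∃ S : Set X, IsOpen S ∧ S ∪ (V₁ : Set X) = V ∧ Disjoint S (V₁ : Set X)) ∧
    (F : Set X) = closure (V₁ : Set X)}
  obtain ⟨F, hF, hmin⟩ := (wellFounded_lt : WellFounded ((· < ·) : Closeds X → Closeds X → Prop)).has_min P
    ⟨⟨closure V, isClosed_closure⟩, V, le_rfl, hV, ⟨∅, isOpen_empty, by simp, by simp⟩, rfl⟩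
  obtain ⟨V₁, hle, hT, ⟨R, hR, hRV, hRd⟩, hF'⟩ := hF
  refine ⟨V₁, hle, hT, fun S S' hS hS' hSV hne hun hd => ?_⟩
  by_contra hST
  have hTS' : T ⊆ S' := fun x hx => by
    rcases (hun.ge (hT hx)) with h | h
    · exact absurd ⟨x, h, hx⟩ hST
    · exact h
  have hS'V : S' ⊆ V₁ := fun x hx => hun.le (Or.inr hx)
  refine hmin ⟨closure S', isClosed_closure⟩ ⟨⟨S', hS'⟩, hS'V.trans hle, hTS', ⟨R ∪ S, hR.union hS, ?_, ?_⟩, rfl⟩ ?_
  · show (R ∪ S) ∪ S' = V
    rw [Set.union_assoc, hun, hRV]
  · exact Set.disjoint_union_left.2 ⟨hRd.mono_right hS'V, hd⟩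
  · refine lt_of_le_not_ge ?_ fun hle' => ?_
    · show closure S' ⊆ (F : Set X)
      rw [hF']
      exact closure_mono hS'V
    · obtain ⟨x, hx⟩ := hne
      have hxc : x ∈ closure S' := hle' (show x ∈ (F : Set X) from hF' ▸ subset_closure (hSV hx))
      obtain ⟨z, hzS, hzS'⟩ := mem_closure_iff.1 hxc S hS hx
      exact Set.disjoint_left.1 hd hzS hzS'

/-- Noetherian spaces have finitely many clopen subsets. -/
theorem finite_isClopen (Z : Type u) [TopologicalSpace Z] [NoetherianSpace Z] : Finite {C : Set Z // IsClopen C} := by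
  haveI := (NoetherianSpace.finite_irreducibleComponents (α := Z)).to_subtype
  refine Finite.of_injective (fun C : {C : Set Z // IsClopen C} => {F : irreducibleComponents Z | F.1 ⊆ C.1}) ?_
  intro C C' h
  have key : ∀ C C' : {C : Set Z // IsClopen C},
      ({F : irreducibleComponents Z | F.1 ⊆ C.1} ⊆ {F | F.1 ⊆ C'.1}) → C.1 ⊆ C'.1 := fun C C' h x hx => by
    refine h (a := ⟨irreducibleComponent x, irreducibleComponent_mem_irreducibleComponents x⟩) ?_ mem_irreducibleComponent
    exact (isIrreducible_irreducibleComponent.2.isPreconnected.subset_isClopen C.2 ⟨x, mem_irreducibleComponent, hx⟩)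
  exact Subtype.ext ((key C C' h.le).antisymm (key C' C h.ge))

variable {X X' : Scheme.{u}} [AlgebraicGeometry.IsNoetherian X] (f : X' ⟶ X)

theorem clopen_meets {V : X.Opens} (hV : ∀ S S' : Set X, IsOpen S → IsOpen S' → S ⊆ V → S.Nonempty →
      S ∪ S' = V → Disjoint S S' → (S ∩ Set.range f).Nonempty)
    {X'' : Scheme.{u}} (j : X'' ⟶ X) [IsOpenImmersion j] (hj : Set.range j = V) (f'' : X' ⟶ X'') (hf : f'' ≫ j = f)
    (S : Set X'') (hS : IsClopen S) (hne : S.Nonempty) : (S ∩ Set.range f'').Nonempty := by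
  obtain ⟨x, ⟨a, ha, rfl⟩, ⟨b, hb⟩⟩ := hV (j '' S) (j '' Sᶜ) (j.isOpenEmbedding.isOpenMap _ hS.2)
    (j.isOpenEmbedding.isOpenMap _ hS.1.isOpen_compl) ((Set.image_subset_range _ _).trans hj.le) (hne.image _)
    (by rw [← Set.image_union, Set.union_compl_self, Set.image_univ, hj])
    (Set.disjoint_image_of_injective j.isOpenEmbedding.injective disjoint_compl_right)
  refine ⟨a, ha, b, j.isOpenEmbedding.injective ?_⟩
  rw [← hb, ← hf, Scheme.Hom.comp_apply]

/-- Maps of covers are determined near a subscheme. -/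
theorem faithful_nhd {V' W' : FEt.Cat X} (φ ψ : V' ⟶ W') (h : (FEt.restrict f).map φ = (FEt.restrict f).map ψ) :
    ∃ V : X.Opens, Set.range f ⊆ V ∧ ∀ (X'' : Scheme.{u}) (j : X'' ⟶ X) [IsOpenImmersion j],
      Set.range j = (V : Set X) → ∀ (f'' : X' ⟶ X''), f'' ≫ j = f →
      (FEt.restrict j).map φ = (FEt.restrict j).map ψ := by
  obtain ⟨V, -, hTV, hV⟩ := exists_small_nhd (Set.range f) (⊤ : Opens X) (Set.subset_univ _)
  refine ⟨V, hTV, fun X'' j _ hj f'' hf => ?_⟩
  haveI := FEtEq25.faithful_restrict f'' (clopen_meets f hV j hj f'' hf)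
  refine (FEt.restrict f'').map_injective ?_
  let e := MorphismProperty.Over.pullbackComp (P := FEt.prop.{u}) (Q := ⊤) f'' j f hf.symm
  have h1 := e.hom.naturality φ
  have h2 := e.hom.naturality ψ
  refine (cancel_epi (e.hom.app V')).1 ?_
  exact h1.symm.trans ((congrArg (· ≫ e.hom.app W') h).trans h2)

set_option maxHeartbeats 800000 in
/-- Maps of restricted covers spread out when clopen subsets do. -/
theorem full_nhd [AlgebraicGeometry.IsNoetherian X']
    (hlift : ∀ {Z : Scheme.{u}} (h : Z ⟶ X), FEt.prop h → ∀ C : Set ↥(pullback h f), IsClopen C →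
      ∃ (W : Set X) (D D' : Set Z), IsOpen W ∧ Set.range f ⊆ W ∧ IsOpen D ∧ IsOpen D' ∧
        (∀ z, h z ∈ W → (z ∈ D' ↔ z ∉ D)) ∧ pullback.fst h f ⁻¹' D = C)
    {V' W' : FEt.Cat X} (φ₀ : (FEt.restrict f).obj V' ⟶ (FEt.restrict f).obj W') :
    ∃ V : X.Opens, Set.range f ⊆ V ∧ ∀ (X'' : Scheme.{u}) (j : X'' ⟶ X) [IsOpenImmersion j],
      Set.range j = (V : Set X) → ∀ (f'' : X' ⟶ X'') (hf : f'' ≫ j = f),
      ∃ φ : (FEt.restrict j).obj V' ⟶ (FEt.restrict j).obj W',
        (FEt.restrict f'').map φ =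
          (MorphismProperty.Over.pullbackComp f'' j f hf.symm).inv.app V' ≫ φ₀ ≫
            (MorphismProperty.Over.pullbackComp f'' j f hf.symm).hom.app W' := by
  haveI : IsFinite V'.hom := V'.prop.1
  haveI : Etale V'.hom := V'.prop.2
  haveI : IsFinite W'.hom := W'.prop.1
  haveI : Etale W'.hom := W'.prop.2
  let w0 := pullback.fst V'.hom W'.hom ≫ V'.hom
  haveI : IsFinite w0 := inferInstanceAs (IsFinite (pullback.fst V'.hom W'.hom ≫ V'.hom))
  haveI : CompactSpace ↥(pullback w0 f) := QuasiCompact.compactSpace_of_compactSpace (pullback.snd w0 f)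
  haveI : IsLocallyNoetherian (pullback w0 f) := LocallyOfFiniteType.isLocallyNoetherian (pullback.snd w0 f)
  haveI : AlgebraicGeometry.IsNoetherian (pullback w0 f) := {}
  haveI := finite_isClopen ↥(pullback w0 f)
  choose Wc Dc Dc' hWc hfW hDc hDc' hDD hDC using fun C : {C : Set ↥(pullback w0 f) // IsClopen C} =>
    hlift w0 ⟨inferInstance, inferInstanceAs (Etale (pullback.fst V'.hom W'.hom ≫ V'.hom))⟩ C.1 C.2
  obtain ⟨V, hVle, hTV, hV⟩ := exists_small_nhd (Set.range f) (⟨⋂ C, Wc C, isOpen_iInter_of_finite hWc⟩ : Opens X)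
    (Set.subset_iInter hfW)
  refine ⟨V, hTV, fun X'' j _ hj f'' hf => ?_⟩
  subst hf
  let u'' := pullback.snd V'.hom j
  let v'' := pullback.snd W'.hom j
  haveI : IsFinite u'' := inferInstanceAs (IsFinite (pullback.snd V'.hom j))
  haveI : Etale u'' := inferInstanceAs (Etale (pullback.snd V'.hom j))
  haveI : IsFinite v'' := inferInstanceAs (IsFinite (pullback.snd W'.hom j))
  haveI : Etale v'' := inferInstanceAs (Etale (pullback.snd W'.hom j))
  let w'' := pullback.fst u'' v'' ≫ u''
  have hclop : ∀ C : Set ↥(pullback w'' f''), IsClopen C →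
      ∃ D : Set ↥(pullback u'' v''), IsClopen D ∧ pullback.fst w'' f'' ⁻¹' D = C := by
    intro C hC
    let π : pullback u'' v'' ⟶ pullback V'.hom W'.hom :=
      pullback.map u'' v'' V'.hom W'.hom (pullback.fst V'.hom j) (pullback.fst W'.hom j) j
        pullback.condition.symm pullback.condition.symm
    have hπ : π ≫ w0 = w'' ≫ j := by
      show π ≫ pullback.fst V'.hom W'.hom ≫ V'.hom = (pullback.fst u'' v'' ≫ pullback.snd V'.hom j) ≫ j
      rw [pullback.lift_fst_assoc, Category.assoc, Category.assoc, pullback.condition]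
    let k : pullback w'' f'' ⟶ pullback w0 (f'' ≫ j) :=
      pullback.lift (pullback.fst w'' f'' ≫ π) (pullback.snd w'' f'') (by
        rw [Category.assoc, hπ, ← Category.assoc, pullback.condition, Category.assoc])
    have ha : pullback.fst w0 (f'' ≫ j) ≫ pullback.fst V'.hom W'.hom ≫ V'.hom =
        (pullback.snd w0 (f'' ≫ j) ≫ f'') ≫ j := by
      rw [Category.assoc]; exact pullback.condition
    let a : pullback w0 (f'' ≫ j) ⟶ pullback u'' v'' :=
      pullback.lift (pullback.lift (pullback.fst w0 (f'' ≫ j) ≫ pullback.fst V'.hom W'.hom)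
          (pullback.snd w0 (f'' ≫ j) ≫ f'') (by rw [Category.assoc]; exact ha))
        (pullback.lift (pullback.fst w0 (f'' ≫ j) ≫ pullback.snd V'.hom W'.hom)
          (pullback.snd w0 (f'' ≫ j) ≫ f'') (by rw [Category.assoc, ← pullback.condition]; exact ha))
        (by simp only [u'', v'', pullback.lift_snd])
    let k' : pullback w0 (f'' ≫ j) ⟶ pullback w'' f'' :=
      pullback.lift a (pullback.snd w0 (f'' ≫ j)) (by
        simp only [a, w'', u'', pullback.lift_fst_assoc, pullback.lift_snd])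
    have hk1 : k ≫ pullback.fst w0 (f'' ≫ j) = pullback.fst w'' f'' ≫ π := pullback.lift_fst _ _ _
    have hk2 : k ≫ pullback.snd w0 (f'' ≫ j) = pullback.snd w'' f'' := pullback.lift_snd _ _ _
    have hkk : k ≫ k' = 𝟙 _ := by
      have hk3 : k ≫ a = pullback.fst w'' f'' := by
        have hc : pullback.snd w'' f'' ≫ f'' = pullback.fst w'' f'' ≫ pullback.fst u'' v'' ≫ u'' := pullback.condition.symm
        apply pullback.hom_ext
        · apply pullback.hom_ext
          · rw [Category.assoc, Category.assoc, pullback.lift_fst_assoc, pullback.lift_fst, ← Category.assoc k, hk1,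
              Category.assoc, pullback.lift_fst, Category.assoc]
          · rw [Category.assoc, Category.assoc, pullback.lift_fst_assoc, pullback.lift_snd, ← Category.assoc k, hk2, hc,
              Category.assoc]
        · apply pullback.hom_ext
          · rw [Category.assoc, Category.assoc, pullback.lift_snd_assoc, pullback.lift_fst, ← Category.assoc k, hk1,
              Category.assoc, pullback.lift_snd, Category.assoc]
          · rw [Category.assoc, Category.assoc, pullback.lift_snd_assoc, pullback.lift_snd, ← Category.assoc k, hk2,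
              Category.assoc]
            exact hc.trans (congrArg (pullback.fst w'' f'' ≫ ·) pullback.condition)
      apply pullback.hom_ext
      · rw [Category.assoc, pullback.lift_fst, hk3, Category.id_comp]
      · rw [Category.assoc, pullback.lift_snd, hk2, Category.id_comp]
    let C₀ : {C : Set ↥(pullback w0 (f'' ≫ j)) // IsClopen C} := ⟨k' ⁻¹' C, hC.preimage k'.continuous⟩
    have hWz : ∀ z : ↥(pullback u'' v''), w0 (π z) ∈ Wc C₀ := fun z => by
      rw [← Scheme.Hom.comp_apply, hπ, Scheme.Hom.comp_apply]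
      exact Set.mem_iInter.1 (hVle (hj.le (Set.mem_range_self _))) C₀
    refine ⟨π ⁻¹' Dc C₀, ⟨⟨?_⟩, (hDc C₀).preimage π.continuous⟩, ?_⟩
    · rw [show (π ⁻¹' Dc C₀)ᶜ = π ⁻¹' Dc' C₀ from Set.ext fun z => (hDD C₀ _ (hWz z)).symm]
      exact (hDc' C₀).preimage π.continuous
    · ext p
      have h1 : pullback.fst w0 (f'' ≫ j) (k p) ∈ Dc C₀ ↔ k p ∈ C₀.1 := Set.ext_iff.1 (hDC C₀) (k p)
      show π (pullback.fst w'' f'' p) ∈ Dc C₀ ↔ p ∈ C
      rw [← Scheme.Hom.comp_apply, show pullback.fst w'' f'' ≫ π = k ≫ pullback.fst w0 (f'' ≫ j) from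
        (pullback.lift_fst _ _ _).symm, Scheme.Hom.comp_apply, h1]
      show k' (k p) ∈ C ↔ p ∈ C
      rw [← Scheme.Hom.comp_apply, hkk]
      rfl
  let m := (MorphismProperty.Over.pullbackComp f'' j (f'' ≫ j) rfl).inv.app V' ≫ φ₀ ≫
    (MorphismProperty.Over.pullbackComp (P := FEt.prop.{u}) (Q := ⊤) f'' j (f'' ≫ j) rfl).hom.app W'
  obtain ⟨n, hn1, hn2⟩ := FEtEq25.exists_desc_hom' f'' (clopen_meets _ hV j hj f'' rfl) u'' v'' hclop m.left
    (FEtEq25.w m)
  refine ⟨MorphismProperty.Over.homMk n hn1, ?_⟩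
  ext : 1
  apply pullback.hom_ext
  · exact (pullback.lift_fst _ _ _).trans hn2
  · exact (pullback.lift_snd _ _ _).trans (FEtEq25.w m).symm

end Groth.Agent.Lef25
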