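import Groth.Agent.Lib.Lef25.NhdClopen
import Groth.Agent.Lib.Lef25.NhdFull
import Groth.Agent.Lib.Pur25.Full

/-!
# Full faithfulness from the neighbourhoods of a punctured hypersurface
-/

set_option autoImplicit false
set_option linter.style.haveILetI false

universe u

open CategoryTheory CategoryTheory.Limits AlgebraicGeometry TopologicalSpace IsLocalRing

noncomputable section

namespace Groth.Agent.Lef25

open Groth.Agent.Pur25

variable {A : Type u} [CommRing A] [IsNoetherianRing A] {ι : Type} [Finite ι] {x : ι → A} {t : A}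
  {U U' : (Spec (CommRingCat.of A)).Opens}

/-- The traces of a neighbourhood of the punctured hypersurface. -/
theorem mem_range_nhd (hU' : U' ≤ U)
    (u' : pullback U.ι (Spec.map (CommRingCat.ofHom (Ideal.Quotient.mk (Ideal.span {t})))) ⟶ (U' : Scheme.{u}))
    (hu' : u' ≫ U'.ι = pullback.fst U.ι (Spec.map (CommRingCat.ofHom (Ideal.Quotient.mk (Ideal.span {t})))) ≫ U.ι)
    (v : (U' : Scheme.{u})) : v ∈ Set.range u' ↔ t ∈ (U'.ι v : PrimeSpectrum A).asIdeal := by
  have key : ∀ p, U'.ι (u' p) = U.ι (pullback.fst U.ι _ p) := fun p => by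
    rw [← Scheme.Hom.comp_apply, hu', Scheme.Hom.comp_apply]
  constructor
  · rintro ⟨p, rfl⟩
    rw [key]
    exact (mem_range_hypersurface t _).1 ⟨p, rfl⟩
  · intro hv
    obtain ⟨w, hw⟩ : (U'.ι v : PrimeSpectrum A) ∈ Set.range U.ι := by
      rw [Scheme.Opens.range_ι]; exact hU' v.2
    obtain ⟨p, hp⟩ := (mem_range_hypersurface t w).2 (by rw [hw]; exact hv)
    exact ⟨p, U'.ι.isOpenEmbedding.injective (by rw [key, hp, hw])⟩

set_option maxHeartbeats 800000 in
/-- Restriction from the neighbourhoods of the punctured hypersurface is full. -/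
theorem full_nhd_hypersurface (hU : ∀ q : PrimeSpectrum A, q ∈ U ↔ ∃ i, x i ∉ q.asIdeal)
    (hnear : ∀ q : PrimeSpectrum A, t ∈ q.asIdeal → (∃ i, x i ∉ q.asIdeal) → NearAt x t q)
    (hU' : U' ≤ U)
    (u' : pullback U.ι (Spec.map (CommRingCat.ofHom (Ideal.Quotient.mk (Ideal.span {t})))) ⟶ (U' : Scheme.{u}))
    (hu' : u' ≫ U'.ι = pullback.fst U.ι (Spec.map (CommRingCat.ofHom (Ideal.Quotient.mk (Ideal.span {t})))) ≫ U.ι)
    {Z : Scheme.{u}} (h : Z ⟶ (U' : Scheme.{u})) (hh : FEt.prop h) (C : Set ↥(pullback h u')) (hC : IsClopen C) :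
    ∃ (W : Set (U' : Scheme.{u})) (D D' : Set Z), IsOpen W ∧ Set.range u' ⊆ W ∧ IsOpen D ∧ IsOpen D' ∧
      (∀ z, h z ∈ W → (z ∈ D' ↔ z ∉ D)) ∧ pullback.fst h u' ⁻¹' D = C := by
  have : IsFinite h := hh.1
  have : Etale h := hh.2
  haveI : IsClosedImmersion (Spec.map (CommRingCat.ofHom (Ideal.Quotient.mk (Ideal.span {t})))) :=
    IsClosedImmersion.spec_of_surjective _ Ideal.Quotient.mk_surjective
  haveI : IsImmersion u' := by
    haveI : IsImmersion (u' ≫ U'.ι) := by rw [hu']; infer_instance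
    exact IsImmersion.of_comp u' U'.ι
  obtain ⟨I, hI⟩ := (PrimeSpectrum.isClosed_iff_zeroLocus_ideal _).1 U'.2.isClosed_compl
  obtain ⟨k, y, hy⟩ := Submodule.fg_iff_exists_fin_generating_family.1 (IsNoetherian.noetherian I)
  have hUy : ∀ q : PrimeSpectrum A, q ∈ U' ↔ ∃ j : Fin k, y j ∉ q.asIdeal := fun q => by
    rw [← not_iff_not]
    push Not
    refine (Set.ext_iff.1 hI q).trans ((PrimeSpectrum.mem_zeroLocus q _).trans ⟨fun h j => h (hy ▸ Submodule.subset_span ⟨j, rfl⟩), fun h => ?_⟩)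
    show I ≤ q.asIdeal
    rw [← hy, Submodule.span_le]
    rintro _ ⟨j, rfl⟩
    exact h j
  obtain ⟨B, _, _, _, j, hj, hjh, hjr, hproj⟩ := exists_model hUy h
  obtain ⟨r, e, G, s, hs⟩ := exists_split y B (hproj inferInstance)
  haveI : IsImmersion (pullback.fst h u') := inferInstance
  have he := (pullback.fst h u').isEmbedding.isInducing
  obtain ⟨O, hO, hOC⟩ := he.isOpen_iff.1 hC.2
  obtain ⟨O', hO', hOC'⟩ := he.isOpen_iff.1 hC.1.isOpen_compl
  have hyq : ∀ q : PrimeSpectrum A, t ∈ q.asIdeal → (∃ i, x i ∉ q.asIdeal) → ∃ j, y j ∉ q.asIdeal := fun q ht hx => by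
    obtain ⟨v, rfl⟩ : q ∈ Set.range U.ι := by rw [Scheme.Opens.range_ι]; exact (hU q).2 hx
    obtain ⟨p, rfl⟩ := (mem_range_hypersurface t v).2 ht
    refine (hUy _).1 ?_
    rw [← Scheme.Hom.comp_apply, ← hu', Scheme.Hom.comp_apply]
    exact (u' p).2
  have hjz : ∀ z, PrimeSpectrum.comap (algebraMap A B) (j z) = U'.ι (h z) := fun z => by
    rw [← Scheme.Hom.comp_apply, ← hjh, Scheme.Hom.comp_apply]
    rfl
  have hqZ : ∀ P : PrimeSpectrum B, algebraMap A B t ∈ P.asIdeal → (∃ i, algebraMap A B (x i) ∉ P.asIdeal) →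
      ∃ p : ↥(pullback h u'), j (pullback.fst h u' p) = P := by
    intro P hPt hPx
    obtain ⟨l, hl⟩ := hyq (PrimeSpectrum.comap (algebraMap A B) P) hPt hPx
    obtain ⟨z, rfl⟩ : P ∈ Set.range j := hjr ▸ ⟨l, hl⟩
    obtain ⟨p, hp⟩ := (mem_range_nhd hU' u' hu' (h z)).2 (by rw [← hjz]; exact hPt)
    obtain ⟨w, hw, -⟩ := Scheme.Pullback.exists_preimage_pullback z p hp.symm
    exact ⟨w, by rw [hw]⟩
  obtain ⟨W, D, D', hW, hD, hD', hqW, hDD, hDO⟩ := exists_clopen_nhd (x := x) (t := t) y G s hs hyq hnear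
    (O := j '' O) (O' := j '' O') (j.isOpenEmbedding.isOpenMap _ hO) (j.isOpenEmbedding.isOpenMap _ hO') (by
      intro P hPt hPx
      obtain ⟨p, rfl⟩ := hqZ P hPt hPx
      exact (j.isOpenEmbedding.injective.mem_set_image.trans (Set.ext_iff.1 hOC' p)).trans
        (not_congr (j.isOpenEmbedding.injective.mem_set_image.trans (Set.ext_iff.1 hOC p))).symm)
  have hxv : ∀ v : (U' : Scheme.{u}), ∃ i, x i ∉ (U'.ι v : PrimeSpectrum A).asIdeal := fun v => (hU _).1 (hU' v.2)
  refine ⟨U'.ι ⁻¹' W, j ⁻¹' D, j ⁻¹' D', hW.preimage U'.ι.continuous, ?_, hD.preimage j.continuous,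
    hD'.preimage j.continuous, fun z hz => ?_, ?_⟩
  · exact fun v hv => hqW _ ((mem_range_nhd hU' u' hu' v).1 hv) (hxv v)
  · refine hDD _ ?_
    rw [hjz]
    exact hz
  · ext p
    have ht : t ∈ (U'.ι (h (pullback.fst h u' p)) : PrimeSpectrum A).asIdeal :=
      (mem_range_nhd hU' u' hu' _).1 ⟨pullback.snd h u' p, by
        rw [← Scheme.Hom.comp_apply, ← Scheme.Hom.comp_apply, pullback.condition]⟩
    obtain ⟨i, hi⟩ := hxv (h (pullback.fst h u' p))
    rw [← hjz] at ht hi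
    exact (hDO _ ht ⟨i, hi⟩).trans (j.isOpenEmbedding.injective.mem_set_image.trans (Set.ext_iff.1 hOC p))

/-- The trace `U₀` is Noetherian. -/
theorem isNoetherian_trace :
    AlgebraicGeometry.IsNoetherian (pullback U.ι (Spec.map (CommRingCat.ofHom (Ideal.Quotient.mk (Ideal.span {t}))))) := by
  haveI : IsClosedImmersion (Spec.map (CommRingCat.ofHom (Ideal.Quotient.mk (Ideal.span {t})))) :=
    IsClosedImmersion.spec_of_surjective _ Ideal.Quotient.mk_surjective
  haveI : IsLocallyNoetherian (U : Scheme.{u}) := inferInstance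
  haveI : CompactSpace (U : Scheme.{u}) := isCompact_iff_compactSpace.1 (NoetherianSpace.isCompact U.carrier)
  haveI : AlgebraicGeometry.IsNoetherian (U : Scheme.{u}) := {}
  let p := pullback.fst U.ι (Spec.map (CommRingCat.ofHom (Ideal.Quotient.mk (Ideal.span {t}))))
  haveI := QuasiCompact.compactSpace_of_compactSpace p
  haveI := LocallyOfFiniteType.isLocallyNoetherian p
  exact {}

/-- Restriction to the punctured hypersurface from its neighbourhoods is fully faithful. -/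
theorem fullFaithful_nhds (hU : ∀ q : PrimeSpectrum A, q ∈ U ↔ ∃ i, x i ∉ q.asIdeal)
    (hnear : ∀ q : PrimeSpectrum A, t ∈ q.asIdeal → (∃ i, x i ∉ q.asIdeal) → NearAt x t q)
    (hU' : U' ≤ U)
    (u' : pullback U.ι (Spec.map (CommRingCat.ofHom (Ideal.Quotient.mk (Ideal.span {t})))) ⟶ (U' : Scheme.{u}))
    (hu' : u' ≫ U'.ι = pullback.fst U.ι (Spec.map (CommRingCat.ofHom (Ideal.Quotient.mk (Ideal.span {t})))) ≫ U.ι)
    (V' W' : FEt.Cat (U' : Scheme.{u})) :
      (∀ φ₀ : (FEt.restrict u').obj V' ⟶ (FEt.restrict u').obj W',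
        ∃ (U'' : (Spec (CommRingCat.of A)).Opens) (h : U'' ≤ U') (u'' : pullback U.ι (Spec.map (CommRingCat.ofHom (Ideal.Quotient.mk (Ideal.span {t})))) ⟶ (U'' : Scheme.{u}))
          (hu : u'' ≫ (Spec (CommRingCat.of A)).homOfLE h = u')
          (φ : (FEt.restrict ((Spec (CommRingCat.of A)).homOfLE h)).obj V' ⟶ (FEt.restrict ((Spec (CommRingCat.of A)).homOfLE h)).obj W'),
          (FEt.restrict u'').map φ =
            (MorphismProperty.Over.pullbackComp u'' ((Spec (CommRingCat.of A)).homOfLE h) u' hu.symm).inv.app V' ≫ φ₀ ≫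
              (MorphismProperty.Over.pullbackComp u'' ((Spec (CommRingCat.of A)).homOfLE h) u' hu.symm).hom.app W') ∧
      (∀ φ ψ : V' ⟶ W', (FEt.restrict u').map φ = (FEt.restrict u').map ψ →
        ∃ (U'' : (Spec (CommRingCat.of A)).Opens) (h : U'' ≤ U') (u'' : pullback U.ι (Spec.map (CommRingCat.ofHom (Ideal.Quotient.mk (Ideal.span {t})))) ⟶ (U'' : Scheme.{u})),
          u'' ≫ (Spec (CommRingCat.of A)).homOfLE h = u' ∧
          (FEt.restrict ((Spec (CommRingCat.of A)).homOfLE h)).map φ = (FEt.restrict ((Spec (CommRingCat.of A)).homOfLE h)).map ψ) := by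
  haveI : IsLocallyNoetherian (U' : Scheme.{u}) := inferInstance
  haveI : CompactSpace (U' : Scheme.{u}) := isCompact_iff_compactSpace.1 (NoetherianSpace.isCompact U'.carrier)
  haveI : AlgebraicGeometry.IsNoetherian (U' : Scheme.{u}) := {}
  haveI := isNoetherian_trace (U := U) (t := t)
  have hrange : ∀ (V : (U' : Scheme.{u}).Opens),
      Set.range ((Spec (CommRingCat.of A)).homOfLE (U'.ι_image_le V)) = (V : Set (U' : Scheme.{u})) := fun V => by
    refine U'.ι.isOpenEmbedding.injective.image_injective ?_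
    rw [← Set.range_comp, ← TopCat.coe_comp, ← Scheme.Hom.comp_base, Scheme.homOfLE_ι, Scheme.Opens.range_ι]
    rfl
  constructor
  · intro φ₀
    obtain ⟨V, hTV, hV⟩ := full_nhd u' (fun h hh C hC => full_nhd_hypersurface hU hnear hU' u' hu' h hh C hC) φ₀
    let j := (Spec (CommRingCat.of A)).homOfLE (U'.ι_image_le V)
    let u'' := IsOpenImmersion.lift j u' (hTV.trans (hrange V).ge)
    have hu : u'' ≫ j = u' := IsOpenImmersion.lift_fac _ _ _
    obtain ⟨φ, hφ⟩ := hV _ j (hrange V) u'' hu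
    exact ⟨_, U'.ι_image_le V, u'', hu, φ, hφ⟩
  · intro φ ψ hφψ
    obtain ⟨V, hTV, hV⟩ := faithful_nhd u' φ ψ hφψ
    let j := (Spec (CommRingCat.of A)).homOfLE (U'.ι_image_le V)
    let u'' := IsOpenImmersion.lift j u' (hTV.trans (hrange V).ge)
    have hu : u'' ≫ j = u' := IsOpenImmersion.lift_fac _ _ _
    exact ⟨_, U'.ι_image_le V, u'', hu, hV _ j (hrange V) u'' hu⟩

end Groth.Agent.Lef25
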