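import Groth.Agent.Lib.Lef25.Main
import Groth.Agent.Lib.PurityFlat25.Main

/-!
# Purity passes to hypersurface sections
-/

set_option autoImplicit false
set_option linter.style.haveILetI false

universe u

open CategoryTheory CategoryTheory.Limits AlgebraicGeometry TopologicalSpace Opposite IsLocalRing

noncomputable section

namespace Groth.Agent.Lef25

open Groth.Agent.Pur25

/-- Purity of `A` and essential surjectivity onto the punctured hypersurface give purity of `A/(f)`. -/
theorem purityHolds_quotient {A : Type u} [CommRing A] [IsLocalRing A] (f : A) [IsLocalRing (A ⧸ Ideal.span {f})]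
    (hA : FEt.PurityHolds A)
    (hE : (FEt.restrict (pullback.fst (FEt.puncturedSpec A).ι
      (Spec.map (CommRingCat.ofHom (Ideal.Quotient.mk (Ideal.span {f})))))).EssSurj) :
    FEt.PurityHolds (A ⧸ Ideal.span {f}) := by
  let qA := Spec.map (CommRingCat.ofHom (Ideal.Quotient.mk (Ideal.span {f})))
  let U := FEt.puncturedSpec A
  let U' := FEt.puncturedSpec (A ⧸ Ideal.span {f})
  have hcl : qA (IsLocalRing.closedPoint (A ⧸ Ideal.span {f})) = IsLocalRing.closedPoint A := by
    refine PrimeSpectrum.ext ?_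
    exact IsLocalRing.eq_maximalIdeal (Ideal.comap_isMaximal_of_surjective (K := IsLocalRing.maximalIdeal (A ⧸ Ideal.span {f}))
      (Ideal.Quotient.mk (Ideal.span {f})) Ideal.Quotient.mk_surjective)
  have hr : Set.range (pullback.snd U.ι qA) = Set.range U'.ι := by
    rw [Scheme.Pullback.range_snd, Scheme.Opens.range_ι, Scheme.Opens.range_ι]
    ext q
    show ¬ qA q = IsLocalRing.closedPoint A ↔ ¬ q = IsLocalRing.closedPoint _
    refine not_congr ⟨fun h1 => ?_, fun h1 => h1 ▸ hcl⟩
    exact PrimeSpectrum.comap_injective_of_surjective _ Ideal.Quotient.mk_surjective (h1.trans hcl.symm)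
  let ψ : pullback U.ι qA ≅ (U' : Scheme.{u}) :=
    IsOpenImmersion.isoOfRangeEq (pullback.snd U.ι qA) U'.ι hr
  have hψ : ψ.inv ≫ pullback.snd U.ι qA = U'.ι := by
    rw [Iso.inv_comp_eq]
    exact (IsOpenImmersion.isoOfRangeEq_hom_fac _ _ _).symm
  let a := pullback.fst U.ι qA
  haveI : (FEt.restrict a).EssSurj := hE
  haveI : (FEt.restrict U.ι).EssSurj := hA
  refine ⟨fun V => ?_⟩
  let W := (FEt.restrict a).objPreimage ((FEt.restrict ψ.hom).obj V)
  let Y := (FEt.restrict U.ι).objPreimage W
  refine ⟨(FEt.restrict qA).obj Y, ⟨?_⟩⟩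
  exact (MorphismProperty.Over.pullbackCongr hψ.symm).app _ ≪≫ (restrictComp ψ.inv (pullback.snd U.ι qA)).app _ ≪≫
    (FEt.restrict ψ.inv).mapIso ((restrictSquare qA (pullback.snd U.ι qA) U.ι a pullback.condition).app Y ≪≫
      (FEt.restrict a).mapIso ((FEt.restrict U.ι).objObjPreimageIso W) ≪≫
      (FEt.restrict a).objObjPreimageIso _) ≪≫
    (restrictComp ψ.inv ψ.hom).symm.app V ≪≫ (MorphismProperty.Over.pullbackCongr ψ.inv_hom_id).app V ≪≫ restrictId V

end Groth.Agent.Lef25
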