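import Groth.Agent.Lib.Lef25.Glue

/-!
# One step of a tower of flat thickenings
-/

set_option autoImplicit false
set_option linter.style.haveILetI false

universe u

open CategoryTheory CategoryTheory.Limits AlgebraicGeometry TopologicalSpace Opposite IsLocalRing
open scoped TensorProduct

noncomputable section

namespace Groth.Agent.Lef25

open Groth.Agent.Pur25

theorem gΓ_comp {B C : Type u} [CommRing B] [CommRing C] (q : B →+* C) {Z : Scheme.{u}}
    (g' : Z ⟶ Spec (CommRingCat.of C)) (b : B) :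
    gΓ (g' ≫ Spec.map (CommRingCat.ofHom q)) b = gΓ g' (q b) := by
  have h : gΓ (g' ≫ Spec.map (CommRingCat.ofHom q)) = CommRingCat.ofHom q ≫ gΓ g' := by
    rw [gΓ, gΓ, Scheme.Hom.comp_appTop, ← Category.assoc, ← Category.assoc, Scheme.ΓSpecIso_inv_naturality]
  rw [h]
  rfl

/-- Exactness of multiplications on flat modules. -/
theorem exists_eq_smul_of_exact {Q : Type u} [CommRing Q] {N : Type u} [AddCommGroup N] [Module Q N] [Module.Flat Q N]
    {a b : Q} (h : Function.Exact (LinearMap.lsmul Q Q a) (LinearMap.lsmul Q Q b)) {z : N} (hz : b • z = 0) :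
    ∃ w : N, z = a • w := by
  have he : ∀ (c : Q) (u : N ⊗[Q] Q),
      TensorProduct.rid Q N ((LinearMap.lsmul Q Q c).lTensor N u) = c • TensorProduct.rid Q N u := fun c u => by
    induction u using TensorProduct.induction_on with
    | zero => simp
    | tmul n r => simp [mul_smul]
    | add u v hu hv => simp only [map_add, smul_add, hu, hv]
  obtain ⟨u, hu⟩ := (Module.Flat.lTensor_exact (M := N) h (z ⊗ₜ[Q] 1)).1
    ((TensorProduct.rid Q N).injective (by rw [he, TensorProduct.rid_tmul, one_smul, hz, map_zero]))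
  exact ⟨TensorProduct.rid Q N u, by rw [← he, hu, TensorProduct.rid_tmul, one_smul]⟩

variable {B : Type u} [CommRing B] {ι : Type} {x : ι → B}

/-- Sections of a scheme over a quotient are killed by the ideal. -/
theorem smul_sec_eq_zero {J : Ideal B} {Z : Scheme.{u}} {g : Z ⟶ Spec (CommRingCat.of B)}
    (g' : Z ⟶ Spec (CommRingCat.of (B ⧸ J))) (hg : g' ≫ Spec.map (CommRingCat.ofHom (Ideal.Quotient.mk J)) = g)
    {c : B} (hc : c ∈ J) (r : secAlg g) : c • r = 0 := by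
  rw [Algebra.smul_def]
  have h0 : gΓ g c = 0 := by rw [← hg, gΓ_comp, Ideal.Quotient.eq_zero_iff_mem.2 hc, map_zero]
  show gΓ g c * _ = 0
  rw [h0, zero_mul]

section flat

variable [IsLocalRing B] [IsNoetherianRing B] [Finite ι]

/-- On a flat level, the kernel of `t` is locally the image of `t^n`. -/
theorem flat_level (hx : Ideal.span (Set.range x) = maximalIdeal B) {t : B} (hreg : ∀ b : B, t * b = 0 → b = 0)
    (n : ℕ) {J : Ideal B} (hJ : J = Ideal.span {t ^ (n + 1)}) {Z : Scheme.{u}} [CompactSpace Z] [QuasiSeparatedSpace Z]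
    (g : Z ⟶ Spec (CommRingCat.of B)) (g' : Z ⟶ Spec (CommRingCat.of (B ⧸ J))) [Flat g']
    (hg : g' ≫ Spec.map (CommRingCat.ofHom (Ideal.Quotient.mk J)) = g)
    (haff : ∀ i, IsAffineOpen (piece x g i)) (z : secAlg g) (hz : t • z = 0) :
    ∃ k : ℕ, ∀ r ∈ maximalIdeal B ^ k, ∃ w : secAlg g, r • z = t ^ n • w := by
  have hex : Function.Exact (LinearMap.lsmul (B ⧸ J) (B ⧸ J) (Ideal.Quotient.mk J (t ^ n)))
      (LinearMap.lsmul (B ⧸ J) (B ⧸ J) (Ideal.Quotient.mk J t)) := by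
    intro b
    obtain ⟨b, rfl⟩ := Ideal.Quotient.mk_surjective b
    show Ideal.Quotient.mk J t * Ideal.Quotient.mk J b = 0 ↔ ∃ c, Ideal.Quotient.mk J (t ^ n) * c = Ideal.Quotient.mk J b
    rw [← map_mul, Ideal.Quotient.eq_zero_iff_mem, hJ, Ideal.mem_span_singleton']
    constructor
    · rintro ⟨a, ha⟩
      refine ⟨Ideal.Quotient.mk _ a, ?_⟩
      rw [← map_mul, sub_eq_zero.1 (hreg (b - t ^ n * a) (by linear_combination -ha))]
    · rintro ⟨c, hc⟩
      obtain ⟨c, rfl⟩ := Ideal.Quotient.mk_surjective c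
      rw [← map_mul, Ideal.Quotient.eq, Ideal.mem_span_singleton'] at hc
      obtain ⟨a, ha⟩ := hc
      exact ⟨c - a * t, by linear_combination -t * ha⟩
  let I : Ideal B := (LinearMap.range (t ^ n • LinearMap.id : secAlg g →ₗ[B] secAlg g)).comap
    (LinearMap.toSpanSingleton B (secAlg g) z)
  suffices hI : ∀ i, ∃ p, x i ^ p ∈ I by
    obtain ⟨K, hK⟩ := exists_pow_le_of_forall hx I hI
    exact ⟨K, fun r hr => let ⟨w, hw⟩ := hK hr; ⟨w, hw.symm⟩⟩
  intro i
  let W := piece x g i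
  letI := ((Z.presheaf.map (homOfLE (le_top : W ≤ ⊤)).op).hom.comp (gΓ g').hom).toAlgebra
  haveI : Module.Flat (B ⧸ J) Γ(Z, W) := flat_piece g' W (haff i)
  have hcomp : ∀ b : B, algebraMap (B ⧸ J) Γ(Z, W) (Ideal.Quotient.mk J b) = resB g W b := fun b => by
    show Z.presheaf.map _ (gΓ g' (Ideal.Quotient.mk J b)) = Z.presheaf.map _ (gΓ g b)
    rw [← hg, gΓ_comp]
  obtain ⟨w, hw⟩ := exists_eq_smul_of_exact hex (z := res g W z) (by
    rw [Algebra.smul_def, hcomp, ← res_smul, hz, map_zero])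
  rw [Algebra.smul_def, hcomp, map_pow] at hw
  obtain ⟨p, v, hv⟩ := exists_pow_mul_eq_res x g i w
  have h0 : res g W (x i ^ p • z - t ^ n • v) = 0 := by
    rw [map_sub, res_smul, res_smul, map_pow, map_pow, hw, ← hv]
    ring
  obtain ⟨q, hq⟩ := exists_pow_smul_eq_zero x g i h0
  refine ⟨q + p, x i ^ q • v, ?_⟩
  show t ^ n • x i ^ q • v = x i ^ (q + p) • z
  rw [smul_sub, sub_eq_zero] at hq
  rw [pow_add, mul_smul, hq, smul_comm]

end flat

section step

variable {Z₀ Z₁ : Scheme.{u}} (g₀ : Z₀ ⟶ Spec (CommRingCat.of B)) (g₁ : Z₁ ⟶ Spec (CommRingCat.of B))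
  (c : Z₀ ⟶ Z₁) (hc : c ≫ g₁ = g₀)

include hc in
theorem appTop_gΓ (b : B) : c.appTop (gΓ g₁ b) = gΓ g₀ b := by
  subst hc
  show (gΓ g₁ ≫ c.appTop) b = _
  rw [gΓ, gΓ, Scheme.Hom.comp_appTop, Category.assoc]

/-- The map on sections. -/
def secMap : secAlg g₁ →ₐ[B] secAlg g₀ :=
  { c.appTop.hom with commutes' := fun b => appTop_gΓ g₀ g₁ c hc b }

include hc in
theorem preimage_piece (i : ι) : c ⁻¹ᵁ piece x g₁ i = piece x g₀ i := by
  rw [piece, piece, Scheme.preimage_basicOpen]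
  exact congrArg Z₀.basicOpen (appTop_gΓ g₀ g₁ c hc (x i))

/-- The transition map is surjective up to torsion. -/
theorem coker_secMap [IsLocalRing B] [IsNoetherianRing B] [Finite ι] (hx : Ideal.span (Set.range x) = maximalIdeal B)
    [CompactSpace Z₀] [QuasiSeparatedSpace Z₀] [CompactSpace Z₁] [QuasiSeparatedSpace Z₁] [IsClosedImmersion c]
    (haff : ∀ i, IsAffineOpen (piece x g₁ i)) :
    LocCoh.IsPowerTorsion (maximalIdeal B) (secAlg g₀ ⧸ LinearMap.range (secMap g₀ g₁ c hc).toLinearMap) := by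
  intro v
  obtain ⟨r, rfl⟩ := Submodule.Quotient.mk_surjective _ v
  let R := LinearMap.range (secMap g₀ g₁ c hc).toLinearMap
  suffices hI : ∀ i, ∃ p, x i ^ p ∈ (R.comap (LinearMap.toSpanSingleton B (secAlg g₀) r) : Ideal B) by
    obtain ⟨K, hK⟩ := exists_pow_le_of_forall hx _ hI
    exact ⟨K, fun a ha => by
      rw [← Submodule.Quotient.mk_smul, Submodule.Quotient.mk_eq_zero]
      exact hK ha⟩
  intro i
  let W₁ := piece x g₁ i
  let W₀ := piece x g₀ i
  have hle : W₀ ≤ c ⁻¹ᵁ W₁ := (preimage_piece g₀ g₁ c hc i).ge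
  let φ : Γ(Z₁, W₁) ⟶ Γ(Z₀, W₀) := c.appLE W₁ W₀ hle
  have hsurj : Function.Surjective φ := by
    have key : ∀ (W : Z₀.Opens) (_ : W = c ⁻¹ᵁ W₁) (e : W ≤ c ⁻¹ᵁ W₁), Function.Surjective (c.appLE W₁ W e) := by
      rintro W rfl e
      rw [← Scheme.Hom.app_eq_appLE]
      exact c.app_surjective W₁ (haff i)
    exact key _ (preimage_piece g₀ g₁ c hc i).symm hle
  have hφ : ∀ w, φ (res g₁ W₁ w) = res g₀ W₀ (secMap g₀ g₁ c hc w) := fun w => by
    show (Z₁.presheaf.map (homOfLE (le_top : W₁ ≤ ⊤)).op ≫ c.appLE W₁ W₀ hle) w =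
      (c.appTop ≫ Z₀.presheaf.map (homOfLE (le_top : W₀ ≤ ⊤)).op) w
    rw [Scheme.Hom.map_appLE]
    rfl
  have hφB : ∀ b, φ (resB g₁ W₁ b) = resB g₀ W₀ b := fun b =>
    (hφ _).trans (congrArg (res g₀ W₀) ((secMap g₀ g₁ c hc).commutes b))
  obtain ⟨s, hs⟩ := hsurj (res g₀ W₀ r)
  obtain ⟨p, w, hw⟩ := exists_pow_mul_eq_res x g₁ i s
  have h0 : res g₀ W₀ (x i ^ p • r - secMap g₀ g₁ c hc w) = 0 := by
    rw [map_sub, res_smul, map_pow, ← hs, ← hφB, ← map_pow, ← map_mul, hw, hφ, sub_self]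
  obtain ⟨q, hq⟩ := exists_pow_smul_eq_zero x g₀ i h0
  refine ⟨q + p, x i ^ q • w, ?_⟩
  show secMap g₀ g₁ c hc (x i ^ q • w) = x i ^ (q + p) • r
  rw [smul_sub, sub_eq_zero] at hq
  rw [map_smul, pow_add, mul_smul, hq]

/-- Sections vanishing on the smaller thickening are killed by `t`. -/
theorem ker_secMap (hcov : ∀ z : Z₁, ∃ i, z ∈ piece x g₁ i) (haff : ∀ i, IsAffineOpen (piece x g₁ i))
    {t : B} {J₀ J₁ : Ideal B} (h : J₁ ≤ J₀) (ht : ∀ b ∈ J₀, t * b ∈ J₁)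
    (g'₀ : Z₀ ⟶ Spec (CommRingCat.of (B ⧸ J₀))) (g'₁ : Z₁ ⟶ Spec (CommRingCat.of (B ⧸ J₁)))
    (hg₁ : g'₁ ≫ Spec.map (CommRingCat.ofHom (Ideal.Quotient.mk J₁)) = g₁)
    (sq : IsPullback g'₀ c (Spec.map (CommRingCat.ofHom (Ideal.Quotient.factor h))) g'₁)
    (z : secAlg g₁) (hz : secMap g₀ g₁ c hc z = 0) : t • z = 0 := by
  refine res_injective x g₁ hcov fun i => ?_
  rw [map_zero, res_smul]
  let W := piece x g₁ i
  haveI : IsAffine W.toScheme := haff i
  let q := Ideal.Quotient.factor h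
  have sqW := (isPullback_morphismRestrict c W).flip.paste_horiz sq
  have hpo := isPushout_appTop_of_isPullback sqW
  let R := Γ(W.toScheme, ⊤)
  let φ : CommRingCat.of (B ⧸ J₁) ⟶ R := gΓ (W.ι ≫ g'₁)
  let I : Ideal R := (RingHom.ker q).map φ.hom
  have hle : RingHom.ker q ≤ RingHom.ker ((Ideal.Quotient.mk I).comp φ.hom) := fun a ha => by
    rw [RingHom.mem_ker, RingHom.comp_apply, Ideal.Quotient.eq_zero_iff_mem]
    exact Ideal.mem_map_of_mem _ ha
  let f' : CommRingCat.of (B ⧸ J₀) ⟶ CommRingCat.of (R ⧸ I) := CommRingCat.ofHom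
    (RingHom.liftOfSurjective q (Ideal.Quotient.factor_surjective h) ⟨(Ideal.Quotient.mk I).comp φ.hom, hle⟩)
  have hq' : CommRingCat.ofHom q ≫ f' = φ ≫ CommRingCat.ofHom (Ideal.Quotient.mk I) :=
    CommRingCat.hom_ext (RingHom.liftOfRightInverse_comp _ _ _ _)
  obtain ⟨ψ, -, hψ⟩ : ∃ ψ : Γ((c ⁻¹ᵁ W).toScheme, ⊤) ⟶ CommRingCat.of (R ⧸ I),
      ((c ⁻¹ᵁ W).ι ≫ g'₀).appTop ≫ ψ = (Scheme.ΓSpecIso _).hom ≫ f' ∧
        (c ∣_ W).appTop ≫ ψ = CommRingCat.ofHom (Ideal.Quotient.mk I) :=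
    hpo.exists_desc _ _ (by
      rw [← Category.assoc, Scheme.ΓSpecIso_naturality, Category.assoc, hq']
      simp only [φ, gΓ, Category.assoc, Iso.hom_inv_id_assoc]
      rfl)
  have h0 : (c ∣_ W).appTop (W.ι.appTop z) = 0 := by
    show (W.ι.appTop ≫ (c ∣_ W).appTop) z = 0
    rw [← Scheme.Hom.comp_appTop, morphismRestrict_ι, Scheme.Hom.comp_appTop]
    show (c ⁻¹ᵁ W).ι.appTop (c.appTop z) = 0
    rw [show c.appTop z = 0 from hz, map_zero]
  have hzI : W.ι.appTop z ∈ I := by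
    rw [← Ideal.Quotient.eq_zero_iff_mem]
    refine ((ConcreteCategory.congr_hom hψ (W.ι.appTop z)).symm.trans ?_)
    rw [CommRingCat.comp_apply, h0, map_zero]
  have hkill : ∀ w ∈ I, φ (Ideal.Quotient.mk J₁ t) * w = 0 := fun w hw => by
    induction hw using Submodule.span_induction with
    | mem w hw =>
      obtain ⟨a, ha, rfl⟩ := hw
      obtain ⟨b, rfl⟩ := Ideal.Quotient.mk_surjective a
      have hb : b ∈ J₀ := Ideal.Quotient.eq_zero_iff_mem.1 ha
      rw [← map_mul, ← map_mul, Ideal.Quotient.eq_zero_iff_mem.2 (ht b hb), map_zero]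
    | zero => rw [mul_zero]
    | add a b _ _ ha hb => rw [mul_add, ha, hb, add_zero]
    | smul r a _ ha => rw [smul_eq_mul, mul_left_comm, ha, mul_zero]
  let z' : Γ(Z₁, ⊤) := z
  have hmain : W.ι.appTop (gΓ g₁ t * z') = 0 := by
    rw [map_mul]
    have e : W.ι.appTop (gΓ g₁ t) = φ (Ideal.Quotient.mk J₁ t) := by
      rw [← hg₁, gΓ_comp]
      show (gΓ g'₁ ≫ W.ι.appTop) _ = _
      simp only [φ, gΓ, Scheme.Hom.comp_appTop, Category.assoc]
    rw [e]
    exact hkill _ hzI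
  have h1 := congrArg W.topIso.hom hmain
  rw [map_zero] at h1
  refine Eq.trans ?_ h1
  rw [← res_smul, Algebra.smul_def]
  show res g₁ W (gΓ g₁ t * z' : Γ(Z₁, ⊤)) = (W.ι.appTop ≫ W.topIso.hom) (gΓ g₁ t * z')
  rw [Scheme.Opens.ι_appTop, Scheme.Opens.topIso_hom]
  exact ConcreteCategory.congr_hom ((congrArg Z₁.presheaf.map (Subsingleton.elim _ _)).trans (Z₁.presheaf.map_comp _ _)) _

end step

end Groth.Agent.Lef25
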