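import Groth.Agent.Lib.CIPic27.System
import Mathlib.Algebra.Category.CommAlgCat.Basic

/-!
# Compatible systems of algebras over `B/(t^{n+1})`, flat off the closed point
-/

set_option autoImplicit false
set_option linter.style.haveILetI false

universe u

open IsLocalRing

noncomputable section

namespace Groth.Agent.Lef25

open Groth.Agent.LocCohLib Groth.Agent.InjHullLib Groth.Agent.ParaGr27 Groth.Agent.CIPic27

variable {B : Type u} [CommRing B] [IsLocalRing B] [IsNoetherianRing B]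

variable (B) in
/-- A compatible system of algebras, flat along the thickenings off the closed point. -/
structure Sys (t : B) where
  /-- The algebras. -/
  M : ℕ → CommAlgCat.{u} B
  /-- The transition maps. -/
  ρ : ∀ n, M (n + 1) →ₐ[B] M n
  finite : Module.Finite B (M 0)
  kill : ∀ n (x : M n), t ^ (n + 1) • x = 0
  good : ∀ n, Good B (M n)
  coker : ∀ n, LocCoh.IsPowerTorsion (maximalIdeal B) (M n ⧸ LinearMap.range (ρ n).toLinearMap)
  ker : ∀ n (x : M (n + 1)), ρ n x = 0 → t • x = 0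
  flat : ∀ n (x : M n), t • x = 0 →
    ∃ k : ℕ, ∀ r ∈ maximalIdeal B ^ k, ∃ w : M n, r • x = t ^ n • w

namespace Sys

variable {t : B} (sy : Sys B t)

theorem kill₀ (x : sy.M 0) : t • x = 0 := (congrArg (· • x) (pow_one t)).symm.trans (sy.kill 0 x)

theorem exists_tau (n : ℕ) :
    ∃ τ : sy.M n →ₗ[B] sy.M (n + 1), τ ∘ₗ (sy.ρ n).toLinearMap = t • LinearMap.id := by
  let R := LinearMap.range (sy.ρ n).toLinearMap
  let f : R →ₗ[B] sy.M (n + 1) :=
    (LinearMap.ker (sy.ρ n).toLinearMap).liftQ (t • LinearMap.id) (fun x hx => LinearMap.mem_ker.2 (sy.ker n x hx)) ∘ₗ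
      (sy.ρ n).toLinearMap.quotKerEquivRange.symm.toLinearMap
  have hk : IsoOff B R.subtype := ⟨fun x => ⟨0, fun r _ => Subtype.ext (R.injective_subtype (by
    exact (LinearMap.mem_ker.1 (r • x).2).trans (map_zero R.subtype).symm))⟩, by rw [Submodule.range_subtype]; exact sy.coker n⟩
  obtain ⟨τ, hτ⟩ := exists_extend_isoOff (sy.good (n + 1)) hk f
  refine ⟨τ, LinearMap.ext fun x => ?_⟩
  refine (LinearMap.congr_fun hτ ⟨_, LinearMap.mem_range_self _ x⟩).trans ?_
  simp only [f, LinearMap.comp_apply, LinearEquiv.coe_coe]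
  rw [show (sy.ρ n).toLinearMap.quotKerEquivRange.symm ⟨(sy.ρ n).toLinearMap x, LinearMap.mem_range_self _ x⟩ = Submodule.Quotient.mk x from
    (sy.ρ n).toLinearMap.quotKerEquivRange.symm_apply_eq.2 (Subtype.ext rfl), Submodule.liftQ_apply]

/-- Multiplication by `t` into the next level. -/
def τ (n : ℕ) : sy.M n →ₗ[B] sy.M (n + 1) := (sy.exists_tau n).choose

theorem τ_ρ (n : ℕ) (x : sy.M (n + 1)) : sy.τ n (sy.ρ n x) = t • x :=
  LinearMap.congr_fun (sy.exists_tau n).choose_spec x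

theorem ρ_τ (n : ℕ) (x : sy.M n) : sy.ρ n (sy.τ n x) = t • x :=
  LinearMap.congr_fun (eq_of_comp_eq (sy.good n).powTors_eq (sy.coker n) (f := (sy.ρ n).toLinearMap ∘ₗ sy.τ n)
    (g := t • LinearMap.id) (LinearMap.ext fun y => by
      simp only [LinearMap.comp_apply, LinearMap.smul_apply, LinearMap.id_apply, AlgHom.toLinearMap_apply]
      rw [sy.τ_ρ, map_smul]) : (sy.ρ n).toLinearMap ∘ₗ sy.τ n = t • LinearMap.id) x

/-- The projection to the bottom level. -/
def π : ∀ n, sy.M n →ₗ[B] sy.M 0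
  | 0 => LinearMap.id
  | n + 1 => π n ∘ₗ (sy.ρ n).toLinearMap

/-- The inclusion of the bottom level. -/
def ι : ∀ n, sy.M 0 →ₗ[B] sy.M n
  | 0 => LinearMap.id
  | n + 1 => sy.τ n ∘ₗ ι n

theorem ι_π : ∀ (n : ℕ) (x : sy.M n), sy.ι n (sy.π n x) = t ^ n • x
  | 0, x => ((congrArg (· • x) (pow_zero t)).trans (one_smul B x)).symm
  | n + 1, x => by
    show sy.τ n (sy.ι n (sy.π n (sy.ρ n x))) = _
    rw [ι_π n, map_smul, τ_ρ, ← mul_smul, pow_succ]

/-- Elements killed by a power of `t` are locally multiples of the complementary power. -/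
theorem flat_pow (n : ℕ) : ∀ j, j ≤ n + 1 → ∀ x : sy.M n, t ^ j • x = 0 →
    ∃ k : ℕ, ∀ r ∈ maximalIdeal B ^ k, ∃ w : sy.M n, r • x = t ^ (n + 1 - j) • w
  | 0, _, x, hx => ⟨0, fun r _ => ⟨0, by rw [show x = 0 by simpa using hx, smul_zero, smul_zero]⟩⟩
  | j + 1, hj, x, hx => by
    obtain ⟨k, hk⟩ := sy.flat n (t ^ j • x) (by rw [← mul_smul, ← pow_succ']; exact hx)
    have hgen : ∀ r ∈ maximalIdeal B ^ k, ∀ a ∈ maximalIdeal B, ∃ e : ℕ, ∃ w : sy.M n,
        (a ^ e * r) • x = t ^ (n + 1 - (j + 1)) • w := by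
      intro r hr a ha
      obtain ⟨w, hw⟩ := hk r hr
      obtain ⟨l, hl⟩ := flat_pow n j (by omega) (r • x - t ^ (n - j) • w) (by
        rw [smul_sub, smul_comm, hw, ← mul_smul, ← pow_add, show j + (n - j) = n by omega, sub_self])
      obtain ⟨v, hv⟩ := hl _ (Ideal.pow_mem_pow ha l)
      refine ⟨l, t • v + a ^ l • w, ?_⟩
      rw [smul_sub, sub_eq_iff_eq_add] at hv
      rw [mul_smul, hv, show n + 1 - j = (n - j) + 1 by omega, show n + 1 - (j + 1) = n - j by omega, pow_succ,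
        mul_smul, smul_add, smul_comm (a ^ l)]
    let S : Submodule B (sy.M n) := LinearMap.range (t ^ (n + 1 - (j + 1)) • LinearMap.id)
    have hle : maximalIdeal B ≤ (Ideal.radical (S.comap (LinearMap.toSpanSingleton B (sy.M n) x) : Ideal B)) := by
      intro a ha
      obtain ⟨e, w, hw⟩ := hgen (a ^ k) (Ideal.pow_mem_pow ha k) a ha
      exact ⟨e + k, w, by rw [pow_add]; exact hw.symm⟩
    obtain ⟨K, hK⟩ := Ideal.exists_pow_le_of_le_radical_of_fg hle (IsNoetherian.noetherian (maximalIdeal B))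
    exact ⟨K, fun r hr => let ⟨w, hw⟩ := hK hr; ⟨w, hw.symm⟩⟩

theorem π_coker : ∀ n, LocCoh.IsPowerTorsion (maximalIdeal B) (sy.M 0 ⧸ LinearMap.range (sy.π n))
  | 0 => fun q => ⟨0, fun r _ => by
      haveI : Subsingleton (sy.M 0 ⧸ LinearMap.range (sy.π 0)) :=
        Submodule.Quotient.subsingleton_iff.2 LinearMap.range_id
      exact Subsingleton.elim _ _⟩
  | n + 1 => isPowerTorsion_range_comp (sy.coker n) (π_coker n)

theorem τ_injective (n : ℕ) : Function.Injective (sy.τ n) := by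
  refine (injective_iff_map_eq_zero _).2 fun x hx => ?_
  obtain ⟨k, hk⟩ := sy.coker n (Submodule.Quotient.mk x)
  suffices hle : maximalIdeal B ≤ (Module.annihilator B (Submodule.span B {x})).radical by
    obtain ⟨K, hK⟩ := Ideal.exists_pow_le_of_le_radical_of_fg hle (IsNoetherian.noetherian (maximalIdeal B))
    exact eq_zero_of_pow_smul (sy.good n).powTors_eq (n := K) fun r hr =>
      congrArg Subtype.val (Module.mem_annihilator.1 (hK hr) ⟨x, Submodule.mem_span_singleton_self x⟩)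
  intro a ha
  obtain ⟨y, hy⟩ := (Submodule.Quotient.mk_eq_zero _).1
    ((Submodule.Quotient.mk_smul _ (a ^ k) x).trans (hk _ (Ideal.pow_mem_pow ha k)))
  change sy.ρ n y = a ^ k • x at hy
  have hty : t • y = 0 := by rw [← sy.τ_ρ, hy, map_smul, hx, smul_zero]
  obtain ⟨l, hl⟩ := sy.flat (n + 1) y hty
  obtain ⟨w, hw⟩ := hl _ (Ideal.pow_mem_pow ha l)
  have h0 : a ^ (l + k) • x = 0 := by
    rw [pow_add, mul_smul, ← hy, ← map_smul, hw, map_smul, sy.kill]
  refine ⟨l + k, Module.mem_annihilator.2 ?_⟩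
  rintro ⟨z, hz⟩
  obtain ⟨c, rfl⟩ := Submodule.mem_span_singleton.1 hz
  exact Subtype.ext (by show a ^ (l + k) • c • x = 0; rw [smul_comm, h0, smul_zero])

theorem ι_injective : ∀ n, Function.Injective (sy.ι n)
  | 0 => fun _ _ h => h
  | n + 1 => (sy.τ_injective n).comp (ι_injective n)

theorem t_smul_ι (n : ℕ) (x : sy.M 0) : t • sy.ι n x = 0 := by
  rw [← map_smul, sy.kill₀ x, map_zero]

/-- The kernel of `t` at level `n` is the bottom level. -/
theorem exists_ι_eq (n : ℕ) (x : sy.M n) (hx : t • x = 0) : ∃ y, sy.ι n y = x := by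
  let K := LinearMap.ker (t • LinearMap.id : sy.M n →ₗ[B] sy.M n)
  let j : sy.M 0 →ₗ[B] K := LinearMap.codRestrict K (sy.ι n) fun y => sy.t_smul_ι n y
  have hj : Function.Injective j := fun a b h => sy.ι_injective n (congrArg Subtype.val h)
  have hc : LocCoh.IsPowerTorsion (maximalIdeal B) (K ⧸ LinearMap.range j) := fun q => by
    obtain ⟨y, rfl⟩ := Submodule.Quotient.mk_surjective _ q
    obtain ⟨k, hk⟩ := sy.flat n (y : sy.M n) y.2
    refine ⟨k, fun r hr => ?_⟩
    obtain ⟨w, hw⟩ := hk r hr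
    rw [← Submodule.Quotient.mk_smul, Submodule.Quotient.mk_eq_zero]
    exact ⟨sy.π n w, Subtype.ext ((sy.ι_π n w).trans hw.symm)⟩
  obtain ⟨y, hy⟩ := (bijective_of_torsionCoker (sy.good 0) (powTors_submodule (sy.good n).powTors_eq K) hj hc).2 ⟨x, hx⟩
  exact ⟨y, congrArg Subtype.val hy⟩

theorem π_τ : ∀ (n : ℕ) (y : sy.M n), sy.π (n + 1) (sy.τ n y) = 0 := fun n y => by
  show sy.π n (sy.ρ n (sy.τ n y)) = 0
  rw [ρ_τ, map_smul]
  exact sy.kill₀ _

/-- The kernel of the projection to the bottom is the previous level. -/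
theorem exists_τ_eq (n : ℕ) (x : sy.M (n + 1)) (hx : sy.π (n + 1) x = 0) : ∃ y, sy.τ n y = x := by
  let K := LinearMap.ker (sy.π (n + 1))
  let j : sy.M n →ₗ[B] K := LinearMap.codRestrict K (sy.τ n) fun y => sy.π_τ n y
  have hj : Function.Injective j := fun a b h => sy.τ_injective n (congrArg Subtype.val h)
  have hc : LocCoh.IsPowerTorsion (maximalIdeal B) (K ⧸ LinearMap.range j) := fun q => by
    obtain ⟨y, rfl⟩ := Submodule.Quotient.mk_surjective _ q
    have hy : t ^ (n + 1) • (y : sy.M (n + 1)) = 0 := by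
      rw [← sy.ι_π, LinearMap.mem_ker.1 y.2, map_zero]
    obtain ⟨k, hk⟩ := sy.flat_pow (n + 1) (n + 1) (by omega) _ hy
    refine ⟨k, fun r hr => ?_⟩
    obtain ⟨w, hw⟩ := hk r hr
    rw [← Submodule.Quotient.mk_smul, Submodule.Quotient.mk_eq_zero]
    refine ⟨sy.ρ n w, Subtype.ext ?_⟩
    show sy.τ n (sy.ρ n w) = r • (y : sy.M (n + 1))
    rw [hw, τ_ρ, show n + 1 + 1 - (n + 1) = 1 by omega, pow_one]
  obtain ⟨y, hy⟩ := (bijective_of_torsionCoker (sy.good n) (powTors_submodule (sy.good (n + 1)).powTors_eq K) hj hc).2 ⟨x, hx⟩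
  exact ⟨y, congrArg Subtype.val hy⟩

/-- All levels are finite. -/
theorem finite_all : ∀ n, Module.Finite B (sy.M n)
  | 0 => sy.finite
  | n + 1 => by
    haveI := finite_all n
    haveI := sy.finite
    haveI := isNoetherian_of_range_eq_ker (sy.τ n) (sy.π (n + 1))
      (le_antisymm (by rintro _ ⟨y, rfl⟩; exact sy.π_τ n y) fun x hx => sy.exists_τ_eq n x hx)
    infer_instance

/-- The cokernels of the transition maps embed in `H²` of the bottom level. -/
theorem exists_coker_embedding (n : ℕ) :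
    ∃ f : (sy.M n ⧸ LinearMap.range (sy.ρ n).toLinearMap) →ₗ[B] LocCoh.H (maximalIdeal B) 2 (sy.M 0),
      Function.Injective f := by
  let m := maximalIdeal B
  let R := LinearMap.range (sy.ρ n).toLinearMap
  let C := sy.M n ⧸ R
  let K := LinearMap.ker (sy.ρ n).toLinearMap
  let j : sy.M 0 →ₗ[B] K := LinearMap.codRestrict K (sy.ι (n + 1)) fun y => by
    rw [LinearMap.mem_ker]
    show sy.ρ n (sy.τ n (sy.ι n y)) = 0
    rw [ρ_τ, sy.t_smul_ι]
  have hj : Function.Bijective j := ⟨fun a b h => sy.ι_injective (n + 1) (congrArg Subtype.val h), fun k => by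
    obtain ⟨y, hy⟩ := sy.exists_ι_eq (n + 1) k (sy.ker n k k.2)
    exact ⟨y, Subtype.ext hy⟩⟩
  have hS₁ := shortExact_mk R.subtype R.mkQ R.injective_subtype R.mkQ_surjective (LinearMap.exact_subtype_mkQ R)
  have hS₂ := shortExact_mk K.subtype (sy.ρ n).toLinearMap.rangeRestrict K.injective_subtype (sy.ρ n).toLinearMap.surjective_rangeRestrict
    (by rw [LinearMap.exact_iff, LinearMap.ker_rangeRestrict, Submodule.range_subtype])
  have h1 : Function.Injective (δ m 0 hS₁) := (injective_iff_map_eq_zero _).2 fun x hx => by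
    obtain ⟨y, rfl⟩ := (exact_map_δ m 0 hS₁ x).1 hx
    exact (congrArg _ ((sy.good n).1.elim y 0)).trans (map_zero _)
  have h2 : Function.Injective (δ m 1 hS₂) := (injective_iff_map_eq_zero _).2 fun x hx => by
    obtain ⟨y, rfl⟩ := (exact_map_δ m 1 hS₂ x).1 hx
    exact (congrArg _ ((sy.good (n + 1)).2.elim y 0)).trans (map_zero _)
  have htop : powTors m C = ⊤ := eq_top_iff.2 fun c _ => mem_powTors_iff.2 (sy.coker n c)
  let e : C ≃ₗ[B] LocCoh.H m 0 C := (Submodule.topEquiv.symm.trans (LinearEquiv.ofEq _ _ htop.symm)).trans (zeroEquiv m C).symm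
  let e' := (hcongr m 2 (LinearEquiv.ofBijective j hj)).symm
  exact ⟨e'.toLinearMap ∘ₗ δ m 1 hS₂ ∘ₗ δ m 0 hS₁ ∘ₗ e.toLinearMap,
    e'.injective.comp (h2.comp (h1.comp e.injective))⟩

/-- The map of cokernels. -/
theorem exists_coker_map (n : ℕ) :
    ∃ f : (sy.M n ⧸ LinearMap.range (sy.ρ n).toLinearMap) →ₗ[B] (sy.M (n + 1) ⧸ LinearMap.range (sy.ρ (n + 1)).toLinearMap),
      Function.Injective f ∧ ∀ x, f (Submodule.Quotient.mk x) = Submodule.Quotient.mk (sy.τ n x) := by
  have hle : LinearMap.range (sy.ρ n).toLinearMap ≤ (LinearMap.range (sy.ρ (n + 1)).toLinearMap).comap (sy.τ n) := by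
    rintro _ ⟨y, rfl⟩
    exact ⟨sy.τ (n + 1) y, (sy.ρ_τ (n + 1) y).trans (sy.τ_ρ n y).symm⟩
  refine ⟨Submodule.mapQ _ _ (sy.τ n) hle, (injective_iff_map_eq_zero _).2 fun q hq => ?_, fun x => rfl⟩
  obtain ⟨x, rfl⟩ := Submodule.Quotient.mk_surjective _ q
  rw [Submodule.mapQ_apply, Submodule.Quotient.mk_eq_zero] at hq
  obtain ⟨z, hz⟩ := hq
  have hπ : sy.π (n + 2) z = 0 := by
    show sy.π (n + 1) (sy.ρ (n + 1) z) = 0
    rw [show sy.ρ (n + 1) z = sy.τ n x from hz, sy.π_τ]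
  obtain ⟨w, rfl⟩ := sy.exists_τ_eq (n + 1) z hπ
  rw [AlgHom.toLinearMap_apply, ρ_τ, ← τ_ρ] at hz
  exact (Submodule.Quotient.mk_eq_zero _).2 ⟨w, sy.τ_injective n hz⟩

/-- Eventually the cokernels do not grow. -/
theorem exists_bound (hH : IsFiniteLength B (LocCoh.H (maximalIdeal B) 2 (sy.M 0))) :
    ∃ n₀, ∀ n, n₀ ≤ n → ∀ x : sy.M (n + 1), ∃ y z, x = sy.τ n y + sy.ρ (n + 1) z := by
  choose g hg using sy.exists_coker_embedding
  choose f hf hfτ using sy.exists_coker_map
  let L : ℕ → ℕ∞ := fun n => Module.length B (sy.M n ⧸ LinearMap.range (sy.ρ n).toLinearMap)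
  have hH' := Module.length_ne_top_iff.2 hH
  obtain ⟨b, hb⟩ := ENat.ne_top_iff_exists.1 hH'
  have hle : ∀ n, L n ≤ (b : ℕ∞) := fun n => hb ▸ Module.length_le_of_injective (g n) (hg n)
  have hmono : ∀ n, L n ≤ L (n + 1) := fun n => Module.length_le_of_injective (f n) (hf n)
  obtain ⟨n₀, hn₀⟩ : ∃ n₀, ∀ n, n₀ ≤ n → L (n + 1) = L n := by
    have hl : ∀ n, ∃ l : ℕ, L n = l ∧ l ≤ b := fun n => by
      obtain ⟨l, hl⟩ := ENat.ne_top_iff_exists.1 (ne_top_of_le_ne_top (ENat.natCast_ne_top b) (hle n))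
      exact ⟨l, hl.symm, by exact_mod_cast hl.le.trans (hle n)⟩
    choose l hl hlb using hl
    have hmono' : Monotone l := monotone_nat_of_le_succ fun n => by
      have := hmono n
      rw [hl, hl] at this
      exact_mod_cast this
    have hbdd : BddAbove (Set.range l) := ⟨b, by rintro _ ⟨n, rfl⟩; exact hlb n⟩
    obtain ⟨n₀, hn₀⟩ := Nat.sSup_mem (Set.range_nonempty l) hbdd
    refine ⟨n₀, fun n hn => ?_⟩
    rw [hl, hl, le_antisymm ((le_csSup hbdd ⟨n + 1, rfl⟩).trans (hn₀.ge.trans (hmono' hn))) (hmono' n.le_succ)]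
  refine ⟨n₀, fun n hn x => ?_⟩
  have hs : Function.Surjective (f n) := by
    have h := Module.length_eq_add_of_exact (f n) (LinearMap.range (f n)).mkQ (hf n) (Submodule.mkQ_surjective _)
      (f n).exact_map_mkQ_range
    rw [show Module.length B _ = L (n + 1) from rfl, hn₀ n hn] at h
    have h0 := (WithTop.add_left_cancel (ne_top_of_le_ne_top (ENat.natCast_ne_top b) (hle n)) ((add_zero (L n)).trans h)).symm
    haveI := Module.length_eq_zero_iff.1 h0
    exact LinearMap.range_eq_top.1 (Submodule.Quotient.subsingleton_iff.1 this)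
  obtain ⟨q, hq⟩ := hs (Submodule.Quotient.mk x)
  obtain ⟨y, rfl⟩ := Submodule.Quotient.mk_surjective _ q
  rw [hfτ, Submodule.Quotient.eq] at hq
  obtain ⟨z, hz⟩ := hq
  exact ⟨y, -z, by rw [map_neg, show sy.ρ (n + 1) z = _ from hz, neg_sub, add_sub_cancel]⟩

end Sys

end Groth.Agent.Lef25
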