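import Groth.Agent.Lib.Lef25.Step
import Groth.Agent.Lib.Lef25.Limit
import Groth.Agent.Lib.Pur25.Full
import Groth.Agent.S0238
import Mathlib.Algebra.Module.Torsion.Basic

/-!
# The tower of thickenings of a finite étale cover of a punctured hypersurface and its limit
-/

set_option autoImplicit false
set_option linter.style.haveILetI false

universe u

open CategoryTheory CategoryTheory.Limits AlgebraicGeometry TopologicalSpace Opposite IsLocalRing
open scoped TensorProduct

noncomputable section

namespace Groth.Agent.Lef25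

open Groth.Agent.LocCohLib Groth.Agent.InjHullLib Groth.Agent.Pur25

variable {B : Type u} [CommRing B] (t : B)

/-- The ideals of the thickenings. -/
def thick : ℕ → Ideal B
  | 0 => Ideal.span {t}
  | k + 1 => Ideal.span {t ^ (k + 2)}

theorem thick_eq : ∀ k, thick t k = Ideal.span {t ^ (k + 1)}
  | 0 => by rw [zero_add, pow_one]; rfl
  | _ + 1 => rfl

theorem thick_le (k : ℕ) : thick t (k + 1) ≤ thick t k := by
  rw [thick_eq, thick_eq, Ideal.span_singleton_le_iff_mem, Ideal.mem_span_singleton]
  exact pow_dvd_pow t (by omega)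

theorem mul_thick (k : ℕ) {b : B} (hb : b ∈ thick t k) : t * b ∈ thick t (k + 1) := by
  rw [thick_eq, Ideal.mem_span_singleton] at hb ⊢
  rw [pow_succ']
  exact mul_dvd_mul_left t hb

/-- The closed immersion of a thickening. -/
abbrev qMap (k : ℕ) : Spec (CommRingCat.of (B ⧸ thick t k)) ⟶ Spec (CommRingCat.of B) :=
  Spec.map (CommRingCat.ofHom (Ideal.Quotient.mk (thick t k)))

instance (k : ℕ) : IsClosedImmersion (qMap t k) :=
  IsClosedImmersion.spec_of_surjective _ Ideal.Quotient.mk_surjective

/-- The transition between thickenings. -/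
abbrev tMap (k : ℕ) : Spec (CommRingCat.of (B ⧸ thick t k)) ⟶ Spec (CommRingCat.of (B ⧸ thick t (k + 1))) :=
  Spec.map (CommRingCat.ofHom (Ideal.Quotient.factor (thick_le t k)))

theorem tMap_qMap (k : ℕ) : tMap t k ≫ qMap t (k + 1) = qMap t k := by
  rw [← Spec.map_comp]
  congr 1

instance (k : ℕ) : IsClosedImmersion (tMap t k) :=
  IsClosedImmersion.spec_of_surjective _ (Ideal.Quotient.factor_surjective (thick_le t k))

instance (k : ℕ) : Surjective (tMap t k) := by
  refine ⟨fun p => ?_⟩
  show p ∈ Set.range (PrimeSpectrum.comap (Ideal.Quotient.factor (thick_le t k)))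
  rw [range_comap_of_surjective _ _ (Ideal.Quotient.factor_surjective (thick_le t k))]
  refine (PrimeSpectrum.mem_zeroLocus _ _).2 fun a ha => ?_
  obtain ⟨b, rfl⟩ := Ideal.Quotient.mk_surjective a
  have hb : b ∈ thick t k := Ideal.Quotient.eq_zero_iff_mem.1 ha
  rw [thick_eq, Ideal.mem_span_singleton'] at hb
  obtain ⟨c, rfl⟩ := hb
  refine p.isPrime.mem_of_pow_mem 2 ?_
  rw [← map_pow, Ideal.Quotient.eq_zero_iff_mem.2 (show (c * t ^ (k + 1)) ^ 2 ∈ thick t (k + 1) from ?_)]
  · exact zero_mem _
  rw [thick_eq, Ideal.mem_span_singleton, mul_pow, ← pow_mul]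
  exact (pow_dvd_pow t (by omega)).mul_left _

variable {U : (Spec (CommRingCat.of B)).Opens}

/-- The thickened punctured hypersurfaces. -/
abbrev Uk (U : (Spec (CommRingCat.of B)).Opens) (k : ℕ) : Scheme.{u} := pullback U.ι (qMap t k)

/-- The transition maps. -/
def jMap (U : (Spec (CommRingCat.of B)).Opens) (k : ℕ) : Uk t U k ⟶ Uk t U (k + 1) :=
  pullback.lift (pullback.fst _ _) (pullback.snd _ _ ≫ tMap t k)
    (by rw [Category.assoc, tMap_qMap, pullback.condition])

theorem isPullback_jMap (k : ℕ) :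
    IsPullback (jMap t U k) (pullback.snd U.ι (qMap t k)) (pullback.snd U.ι (qMap t (k + 1))) (tMap t k) := by
  refine IsPullback.of_right (h₁₂ := pullback.fst U.ι (qMap t (k + 1))) (v₁₃ := U.ι) (h₂₂ := qMap t (k + 1)) ?_
    (pullback.lift_snd _ _ _) (IsPullback.of_hasPullback U.ι (qMap t (k + 1)))
  rw [jMap, pullback.lift_fst, tMap_qMap]
  exact IsPullback.of_hasPullback U.ι (qMap t k)

instance (k : ℕ) : IsClosedImmersion (jMap t U k) :=
  MorphismProperty.of_isPullback (isPullback_jMap t k).flip inferInstance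

instance (k : ℕ) : Surjective (jMap t U k) :=
  MorphismProperty.of_isPullback (isPullback_jMap t k).flip inferInstance

/-- The lifts of a cover. -/
def cover (V₀ : FEt.Cat (Uk t U 0)) : ∀ k, FEt.Cat (Uk t U k)
  | 0 => V₀
  | k + 1 =>
    haveI := Groth.Agent.S0238.result (jMap t U k)
    (FEt.restrict (jMap t U k)).objPreimage (cover V₀ k)

variable (V₀ : FEt.Cat (Uk t U 0))

/-- The transition maps of the lifts. -/
theorem exists_cMap (k : ℕ) : ∃ c : (cover t V₀ k).left ⟶ (cover t V₀ (k + 1)).left,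
    IsPullback c (cover t V₀ k).hom (cover t V₀ (k + 1)).hom (jMap t U k) := by
  haveI := Groth.Agent.S0238.result (jMap t U k)
  let e : (FEt.restrict (jMap t U k)).obj (cover t V₀ (k + 1)) ≅ cover t V₀ k :=
    (FEt.restrict (jMap t U k)).objObjPreimageIso _
  let eL : (cover t V₀ k).left ≅ pullback (cover t V₀ (k + 1)).hom (jMap t U k) :=
    (Over.forget _).mapIso ((MorphismProperty.Over.forget _ _ _).mapIso e.symm)
  refine ⟨eL.hom ≫ pullback.fst (cover t V₀ (k + 1)).hom (jMap t U k), IsPullback.of_iso_pullback ⟨?_⟩ eL rfl ?_⟩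
  · rw [Category.assoc, pullback.condition, ← Category.assoc]
    exact congrArg (· ≫ jMap t U k) (Over.w ((MorphismProperty.Over.forget _ _ _).map e.inv))
  · exact Over.w ((MorphismProperty.Over.forget _ _ _).map e.inv)

/-- The structure map over the base. -/
def gk (k : ℕ) : (cover t V₀ k).left ⟶ Spec (CommRingCat.of B) :=
  ((cover t V₀ k).hom ≫ pullback.fst U.ι (qMap t k)) ≫ U.ι

/-- The structure map over the thickening. -/
def gk' (k : ℕ) : (cover t V₀ k).left ⟶ Spec (CommRingCat.of (B ⧸ thick t k)) :=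
  (cover t V₀ k).hom ≫ pullback.snd U.ι (qMap t k)

theorem gk'_comp (k : ℕ) : gk' t V₀ k ≫ qMap t k = gk t V₀ k := by
  rw [gk', gk, Category.assoc, Category.assoc, pullback.condition]

instance (k : ℕ) : IsFinite ((cover t V₀ k).hom ≫ pullback.fst U.ι (qMap t k)) := by
  haveI : IsFinite (cover t V₀ k).hom := (cover t V₀ k).prop.1
  infer_instance

instance (k : ℕ) : Flat (gk' t V₀ k) := by
  haveI : Etale (cover t V₀ k).hom := (cover t V₀ k).prop.2
  exact inferInstanceAs (Flat ((cover t V₀ k).hom ≫ pullback.snd U.ι (qMap t k)))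

variable [IsNoetherianRing B]

omit [IsNoetherianRing B] in
theorem compactSpace_cover [CompactSpace (U : Scheme.{u})] (k : ℕ) : CompactSpace (cover t V₀ k).left :=
  QuasiCompact.compactSpace_of_compactSpace ((cover t V₀ k).hom ≫ pullback.fst U.ι (qMap t k))

theorem quasiSeparated_cover (k : ℕ) : QuasiSeparatedSpace (cover t V₀ k).left := by
  haveI : LocallyOfFiniteType (gk t V₀ k) :=
    inferInstanceAs (LocallyOfFiniteType (((cover t V₀ k).hom ≫ pullback.fst U.ι (qMap t k)) ≫ U.ι))
  haveI : IsLocallyNoetherian (cover t V₀ k).left := LocallyOfFiniteType.isLocallyNoetherian (gk t V₀ k)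
  infer_instance

variable [IsLocalRing B] {ι : Type} [Finite ι] {x : ι → B}

theorem pieces (hU : ∀ q : PrimeSpectrum B, q ∈ U ↔ ∃ i, x i ∉ q.asIdeal) (k : ℕ) :
    (∀ z, ∃ i, z ∈ piece x (gk t V₀ k) i) ∧ ∀ i, IsAffineOpen (piece x (gk t V₀ k) i) := by
  obtain ⟨h1, h2⟩ := cover_affine hU ((cover t V₀ k).hom ≫ pullback.fst U.ι (qMap t k))
  exact ⟨h1, fun i => by simpa [piece, gk] using h2 i 1⟩

omit [IsNoetherianRing B] in
theorem compactSpace_punctured (hU : ∀ q : PrimeSpectrum B, q ∈ U ↔ ∃ i, x i ∉ q.asIdeal) :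
    CompactSpace (U : Scheme.{u}) := by
  cases nonempty_fintype ι
  have h : (U.carrier : Set (PrimeSpectrum B)) = ⋃ i, (PrimeSpectrum.basicOpen (x i) : Set (PrimeSpectrum B)) := by
    exact Set.ext fun (q : PrimeSpectrum B) => (hU q).trans
      (Set.mem_iUnion (s := fun i => (PrimeSpectrum.basicOpen (x i) : Set (PrimeSpectrum B)))).symm
  refine isCompact_iff_compactSpace.1 ?_
  show IsCompact U.carrier
  rw [h]
  exact isCompact_iUnion fun i => PrimeSpectrum.isCompact_basicOpen (x i)

set_option maxHeartbeats 800000 in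
/-- The bottom of the tower is finite with `H²` of finite length. -/
theorem finite_bottom (hU : ∀ q : PrimeSpectrum B, q ∈ U ↔ ∃ i, x i ∉ q.asIdeal)
    (hx : Ideal.span (Set.range x) = maximalIdeal B)
    (h1 : maximalIdeal B ≤ (Module.annihilator B (LocCoh.H (maximalIdeal B) 1 (B ⧸ Ideal.span {t}))).radical)
    (h2 : maximalIdeal B ≤ (Module.annihilator B (LocCoh.H (maximalIdeal B) 2 (B ⧸ Ideal.span {t}))).radical) :
    Module.Finite B (secAlg (gk t V₀ 0)) ∧
      IsFiniteLength B (LocCoh.H (maximalIdeal B) 2 (secAlg (gk t V₀ 0))) := by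
  classical
  cases nonempty_fintype ι
  let A₀ := B ⧸ Ideal.span {t}
  let Z : Scheme.{u} := (cover t V₀ 0).left
  let g := gk t V₀ 0
  haveI := compactSpace_punctured hU
  haveI hcs : CompactSpace (cover t V₀ 0).left := compactSpace_cover t V₀ 0
  haveI : QuasiSeparatedSpace (cover t V₀ 0).left := quasiSeparated_cover t V₀ 0
  obtain ⟨hcov, haff⟩ := pieces t V₀ hU 0
  let h : (cover t V₀ 0).left ⟶ (U : Scheme.{u}) := (cover t V₀ 0).hom ≫ pullback.fst U.ι (qMap t 0)
  haveI : IsFinite h := inferInstanceAs (IsFinite ((cover t V₀ 0).hom ≫ pullback.fst U.ι (qMap t 0)))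
  obtain ⟨M, _, _, _, j, hj, hjg, hjr, -⟩ := exists_model hU h
  let ρ : M →ₐ[B] secAlg g :=
    { ((Scheme.ΓSpecIso (CommRingCat.of M)).inv ≫ j.appTop).hom with
      commutes' := fun c => by
        have h1 : CommRingCat.ofHom (algebraMap B M) ≫ (Scheme.ΓSpecIso (CommRingCat.of M)).inv ≫ j.appTop = gΓ g := by
          rw [← Category.assoc, Scheme.ΓSpecIso_inv_naturality, Category.assoc, gΓ, show g = h ≫ U.ι from rfl, ← hjg,
            Scheme.Hom.comp_appTop]
        exact ConcreteCategory.congr_hom h1 c }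
  haveI : IsNoetherianRing M := IsNoetherianRing.of_finite B M
  have hρ := sections_openImmersion j ρ.toRingHom (fun _ => rfl) (fun i => algebraMap B M (x i))
    (fun i q hq => show q ∈ Set.range j from hjr ▸ ⟨i, hq⟩)
  let C : Submodule B (secAlg g) := LinearMap.range ρ.toLinearMap
  haveI : Module.Finite B C := Module.Finite.range ρ.toLinearMap
  have hC : ∀ (r : secAlg g) i, ∃ p, x i ^ p • r ∈ C := fun r i => by
    obtain ⟨p, b, hb⟩ := hρ.2 r i
    exact ⟨p, b, hb.trans (by rw [Algebra.smul_def, map_pow]; exact congrArg (· ^ p * r) (ρ.commutes (x i)))⟩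
  have hQ : LocCoh.IsPowerTorsion (maximalIdeal B) (secAlg g ⧸ C) := fun v => by
    obtain ⟨r, rfl⟩ := Submodule.Quotient.mk_surjective _ v
    obtain ⟨K, hK⟩ := exists_pow_le_of_forall hx (C.comap (LinearMap.toSpanSingleton B (secAlg g) r) : Ideal B) (hC r)
    exact ⟨K, fun a ha => by rw [← Submodule.Quotient.mk_smul, Submodule.Quotient.mk_eq_zero]; exact hK ha⟩
  have hkill : Module.IsTorsionBySet B C (Ideal.span {t} : Set B) := fun c b =>
    Subtype.ext (smul_sec_eq_zero (gk' t V₀ 0) (gk'_comp t V₀ 0) b.2 (c : secAlg g))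
  letI : Module A₀ C := hkill.module
  haveI : IsScalarTower B A₀ C := hkill.isScalarTower
  haveI : Module.Finite A₀ C := Module.Finite.of_restrictScalars_finite B A₀ C
  let y : ι → A₀ := fun i => Ideal.Quotient.mk _ (x i)
  have hproj : ∀ i, Module.Projective (Localization (Submonoid.powers (y i)))
      (LocalizedModule (Submonoid.powers (y i)) C) := by
    intro i
    let W := piece x g i
    letI : Algebra A₀ Γ(Z, W) :=
      ((Z.presheaf.map (homOfLE (le_top : W ≤ ⊤)).op).hom.comp (gΓ (gk' t V₀ 0)).hom).toAlgebra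
    haveI : Module.Flat A₀ Γ(Z, W) := flat_piece (gk' t V₀ 0) W (haff i)
    have hcomp : ∀ b : B, algebraMap A₀ Γ(Z, W) (Ideal.Quotient.mk _ b) = resB g W b := fun b => by
      show Z.presheaf.map _ (gΓ (gk' t V₀ 0) (Ideal.Quotient.mk _ b)) = Z.presheaf.map _ (gΓ g b)
      rw [show g = gk' t V₀ 0 ≫ qMap t 0 from (gk'_comp t V₀ 0).symm, gΓ_comp]
    have hy : ∀ b (c : C), (Ideal.Quotient.mk (Ideal.span {t}) b) • c = b • c := fun b c =>
      IsScalarTower.algebraMap_smul A₀ b c
    let L : C →ₗ[A₀] Γ(Z, W) :=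
      { toFun := fun c => res g W c
        map_add' := fun a b => map_add _ _ _
        map_smul' := fun a c => by
          obtain ⟨b, rfl⟩ := Ideal.Quotient.mk_surjective a
          rw [RingHom.id_apply, hy, Submodule.coe_smul, res_smul, Algebra.smul_def, hcomp] }
    haveI : IsLocalizedModule (Submonoid.powers (y i)) L := by
      constructor
      · rintro ⟨_, p, rfl⟩
        have hu : IsUnit (algebraMap A₀ Γ(Z, W) (y i ^ p)) := by
          rw [map_pow, hcomp]
          exact (isUnit_resB x g le_rfl).pow p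
        rw [Module.End.isUnit_iff]
        refine ⟨fun a b hab => hu.mul_left_cancel ?_, fun b => ⟨↑hu.unit⁻¹ * b, ?_⟩⟩
        · simp only [Module.algebraMap_end_apply, Algebra.smul_def] at hab
          exact hab
        · simp only [Module.algebraMap_end_apply, Algebra.smul_def]
          rw [← mul_assoc, IsUnit.mul_val_inv, one_mul]
      · intro s
        obtain ⟨p, w, hw⟩ := exists_pow_mul_eq_res x g i s
        obtain ⟨q, hq⟩ := hC w i
        refine ⟨⟨⟨_, hq⟩, ⟨_, q + p, rfl⟩⟩, ?_⟩
        show y i ^ (q + p) • s = res g W (x i ^ q • w)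
        rw [Algebra.smul_def, map_pow, hcomp, res_smul, map_pow, ← hw]
        ring
      · intro a b hab
        obtain ⟨p, hp⟩ := exists_pow_smul_eq_zero x g i (r := (a : secAlg g) - b)
          (by rw [map_sub, sub_eq_zero]; exact hab)
        refine ⟨⟨_, p, rfl⟩, ?_⟩
        show y i ^ p • a = y i ^ p • b
        rw [← map_pow, hy, hy]
        exact Subtype.ext (sub_eq_zero.1 ((smul_sub _ _ _).symm.trans hp))
    let S := Submonoid.powers (y i)
    haveI : Module.Flat A₀ (LocalizedModule S C) := Module.Flat.of_linearEquiv (IsLocalizedModule.iso S L)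
    haveI : Module.Flat (Localization S) (LocalizedModule S C) :=
      Module.flat_iff_of_isLocalization (Localization S) S (LocalizedModule S C) |>.2 inferInstance
    haveI : IsNoetherianRing (Localization S) := IsLocalization.isNoetherianRing S _ inferInstance
    haveI := Module.finitePresentation_of_finite (Localization S) (LocalizedModule S C)
    exact Module.Flat.projective_of_finitePresentation
  obtain ⟨r, e, G, s, hs⟩ := exists_split y C hproj
  have hann : ∀ i, maximalIdeal B ≤ (Module.annihilator B (LocCoh.H (maximalIdeal B) i A₀)).radical →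
      maximalIdeal B ≤ (Module.annihilator B (LocCoh.H (maximalIdeal B) i C)).radical := fun i hi a ha => by
    obtain ⟨K, c, hc⟩ := exists_pow_eq_sum (mem_radical_span hx ha) e
    refine mem_radical_annihilator_H i (hi ha) (r := r) (k := K)
      (∑ l, c l • (s l).restrictScalars B) (G.restrictScalars B) fun v => ?_
    simp only [LinearMap.sum_apply, LinearMap.smul_apply, map_sum, map_smul, LinearMap.restrictScalars_apply, hs]
    rw [hc, Finset.sum_smul]
    refine Finset.sum_congr rfl fun l _ => ?_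
    rw [mul_smul, show (y l ^ e) • v = x l ^ e • v by rw [← map_pow]; exact IsScalarTower.algebraMap_smul A₀ _ v]
  have hfin : Module.Finite B (secAlg g) :=
    finite_of_torsion_extension _ (good_sec hx g hcov) C hQ (hann 1 h1)
  exact ⟨hfin, (GorenLib.isFiniteLength_H_iff _ 2).2 (le_radical_annihilator_H2 _ C hQ (hann 2 h2))⟩

/-- A lift to `B` of the sections of a cover of the punctured hypersurface. -/
theorem exists_algebra (hU : ∀ q : PrimeSpectrum B, q ∈ U ↔ ∃ i, x i ∉ q.asIdeal)
    (hx : Ideal.span (Set.range x) = maximalIdeal B) [IsAdicComplete (Ideal.span {t}) B]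
    (hreg : ∀ b : B, t * b = 0 → b = 0)
    (h1 : maximalIdeal B ≤ (Module.annihilator B (LocCoh.H (maximalIdeal B) 1 (B ⧸ Ideal.span {t}))).radical)
    (h2 : maximalIdeal B ≤ (Module.annihilator B (LocCoh.H (maximalIdeal B) 2 (B ⧸ Ideal.span {t}))).radical) :
    ∃ (X : CommAlgCat.{u} B) (_ : Module.Finite B X) (φ : X →ₐ[B] secAlg (gk t V₀ 0)),
      (∀ a : X, t • a = 0 → a = 0) ∧ (∀ a : X, φ a = 0 → ∃ b : X, a = t • b) ∧
      LocCoh.IsPowerTorsion (maximalIdeal B) (secAlg (gk t V₀ 0) ⧸ LinearMap.range φ.toLinearMap) := by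
  haveI := compactSpace_punctured hU
  haveI : ∀ k, CompactSpace (cover t V₀ k).left := compactSpace_cover t V₀
  haveI : ∀ k, QuasiSeparatedSpace (cover t V₀ k).left := quasiSeparated_cover t V₀
  choose c hc using exists_cMap t V₀
  have hcg : ∀ k, c k ≫ gk t V₀ (k + 1) = gk t V₀ k := fun k => by
    rw [gk, gk, ← Category.assoc, ← Category.assoc, (hc k).w, Category.assoc _ (jMap t U k), jMap, pullback.lift_fst]
  have hsq : ∀ k, IsPullback (gk' t V₀ k) (c k) (tMap t k) (gk' t V₀ (k + 1)) := fun k =>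
    ((hc k).paste_vert (isPullback_jMap t k)).flip
  haveI : ∀ k, IsClosedImmersion (c k) := fun k => MorphismProperty.of_isPullback (hc k).flip inferInstance
  obtain ⟨hfin, hH⟩ := finite_bottom t V₀ hU hx h1 h2
  let sy : Sys B t :=
    { M := fun k => secAlg (gk t V₀ k)
      ρ := fun k => secMap (gk t V₀ k) (gk t V₀ (k + 1)) (c k) (hcg k)
      finite := hfin
      kill := fun k r => smul_sec_eq_zero (gk' t V₀ k) (gk'_comp t V₀ k)
        (by rw [thick_eq]; exact Ideal.mem_span_singleton_self _) r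
      good := fun k => good_sec hx _ (pieces t V₀ hU k).1
      coker := fun k => coker_secMap _ _ (c k) (hcg k) hx (pieces t V₀ hU (k + 1)).2
      ker := fun k r hr => ker_secMap _ _ (c k) (hcg k) (pieces t V₀ hU (k + 1)).1 (pieces t V₀ hU (k + 1)).2
        (thick_le t k) (fun b hb => mul_thick t k hb) (gk' t V₀ k) (gk' t V₀ (k + 1)) (gk'_comp t V₀ (k + 1))
        (hsq k) r hr
      flat := fun k r hr => flat_level hx hreg k (thick_eq t k) _ (gk' t V₀ k) (gk'_comp t V₀ k)
        (pieces t V₀ hU k).2 r hr }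
  obtain ⟨n₀, hn₀⟩ := sy.exists_bound hH
  exact sy.exists_limit hn₀

end Groth.Agent.Lef25
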